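import Cfsg.Agent.Lib.JankoFourTen.Coord
import Cfsg.Agent.Lib.JankoFour.Mathieu
import Cfsg.Agent.Lib.Concrete.SteinerExtend
import Cfsg.Agent.Lib.Concrete.SteinerAut

/-!
# The normalizer of the group of order `2¹¹` in the coordinates of the twenty-four points
-/

set_option autoImplicit false
set_option linter.style.haveILetI false
set_option linter.unusedSectionVars false

namespace Cfsg.Lib.JankoFourTen

open Cfsg Cfsg.Lib.Concrete Cfsg.Lib.JankoFour Cfsg.Lib.FischerLarge Cfsg.Lib.JankoFour.BitModel
open scoped Pointwise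

/-- The action on coordinates of a packed permutation. -/
def actL (p : ℕ) : List ℕ := (List.range 11).map fun k => pairC (pget p k) (pget p 11)

/-- The group of order `2¹¹` as even sets of points modulo the code, with the action of its normalizer. -/
structure TenModel {G : Type*} [Group G] [Finite G] {A : Type} [Group A] {I : Subgroup A} {F : Frame G A I}
    {D : HexData A I} (S : Std F D) where
  /-- The map of the points. -/
  f : GolayPt → ↥S.Vb
  /-- The action on the points. -/
  ψ : ↥S.NV →* ↥Cfsg.M24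
  oct : ∀ o ∈ octList, prodM f o = 1
  ker : ψ.ker = S.Vb.subgroupOf S.NV
  surj : Function.Surjective ψ
  rel : ∀ (n : ↥S.NV) (x y : GolayPt), x ≠ y →
    S.normAut n (f x * f y) = f ((ψ n : Equiv.Perm GolayPt) x) * f ((ψ n : Equiv.Perm GolayPt) y)
  inj : ∀ v < 2048, ∀ w < 2048, elM f v = elM f w → v = w
  cover : ∀ x : ↥S.Vb, ∃ v < 2048, elM f v = x
  dset : ∀ x : ↥S.Vb, x ∈ S.dSet ↔ ∃ a b, a ≠ b ∧ f a * f b = x

variable {G : Type*} [Group G] [Finite G] {A : Type} [Group A] {I : Subgroup A} {F : Frame G A I}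
  {D : HexData A I} {S : Std F D}

theorem vb_sq (x : ↥S.Vb) : x * x = 1 := Subtype.ext (S.Vb_sq x.2)

theorem exists_model (C : Adapted S) : Nonempty (TenModel S) := by
  classical
  obtain ⟨e, he⟩ := steiner_824_octads C.pairCode.cardα C.pairCode.steiner
  set P := C.pairCode
  let P' : PairCode ↥S.Vb GolayPt :=
    { f := fun x => P.f (e.symm x)
      T := P.T
      sq := P.sq
      one_notMem := P.one_notMem
      pair := fun p q hpq => P.pair _ _ (e.symm.injective.ne hpq)
      surj := fun t ht => by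
        obtain ⟨p, q, hpq, h⟩ := P.surj t ht
        exact ⟨e p, e q, e.injective.ne hpq, by rw [e.symm_apply_apply, e.symm_apply_apply]; exact h⟩
      gen := P.gen
      cardα := rfl
      cardT := P.cardT
      cardX := P.cardX
      nbrs := P.nbrs }
  have himg : ∀ b : Finset (Fin 24), P'.prod (b.image e) = P.prod b := fun b => by
    show ∏ x ∈ b.image e, P.f (e.symm x) = _
    rw [Finset.prod_image e.injective.injOn]
    exact Finset.prod_congr rfl fun x _ => by rw [e.symm_apply_apply]
  have hocts : P'.octs = octads := by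
    rw [← he]
    ext b
    constructor
    · intro hb
      have h2 : (b.image e.symm).image e = b := by
        rw [Finset.image_image, show (e : Fin 24 → GolayPt) ∘ e.symm = id from funext e.apply_symm_apply,
          Finset.image_id]
      refine ⟨b.image e.symm, ⟨?_, ?_⟩, h2⟩
      · rw [Finset.card_image_of_injective _ e.symm.injective]; exact hb.1
      · rw [← himg, h2]; exact hb.2
    · rintro ⟨b, hb, rfl⟩
      exact ⟨by rw [Finset.card_image_of_injective _ e.injective]; exact hb.1, by rw [himg]; exact hb.2⟩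
  have hoct : ∀ o ∈ octList, prodM P'.f o = 1 := fun o ho => by
    rw [prodM_eq_prod]
    have h : mset o ∈ P'.octs := hocts ▸ (mset_mem_octads_iff (octList_lt ho)).2 ho
    exact h.2
  have hpair : ∀ x y, P'.f x * P'.f y = elM P'.f (pairC (gidx x).val (gidx y).val) :=
    elM_pair P'.f P'.sq hoct
  have hcover : ∀ x : ↥S.Vb, ∃ v < 2048, elM P'.f v = x := by
    have h0 : elM P'.f 0 = 1 := by
      have := elM_xor P'.f P'.sq 0 0
      rwa [Nat.xor_self, P'.sq] at this
    let U : Subgroup ↥S.Vb :=
      { carrier := {x | ∃ v < 2048, elM P'.f v = x}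
        one_mem' := ⟨0, by norm_num, h0⟩
        mul_mem' := by
          rintro _ _ ⟨v, hv, rfl⟩ ⟨w, hw, rfl⟩
          exact ⟨v ^^^ w, Nat.xor_lt_two_pow (n := 11) hv hw, elM_xor P'.f P'.sq v w⟩
        inv_mem' := by
          rintro _ ⟨v, hv, rfl⟩
          exact ⟨v, hv, (inv_eq_of_mul_eq_one_right (P'.sq _)).symm⟩ }
    have hU : U = ⊤ := eq_top_iff.2 (by
      rw [← P'.gen, Subgroup.closure_le]
      intro t ht
      obtain ⟨p, q, -, rfl⟩ := P'.surj t ht
      exact ⟨_, pairC_lt _ _, (hpair p q).symm⟩)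
    exact fun x => (hU ▸ Subgroup.mem_top x : x ∈ U)
  have hinj : ∀ v < 2048, ∀ w < 2048, elM P'.f v = elM P'.f w → v = w := by
    have hb : Function.Bijective (fun v : Fin 2048 => elM P'.f v.val) :=
      (Nat.bijective_iff_surjective_and_card _).2 ⟨fun x => by
        obtain ⟨v, hv, h⟩ := hcover x
        exact ⟨⟨v, hv⟩, h⟩, by rw [S.card_Vb, Nat.card_eq_fintype_card, Fintype.card_fin]; norm_num⟩
    exact fun v hv w hw h => congrArg Fin.val (hb.1 (a₁ := ⟨v, hv⟩) (a₂ := ⟨w, hw⟩) h)
  have hT : ∀ n : ↥S.NV, ∀ t ∈ P'.T, S.normAut n t ∈ P'.T := fun n t ht => (S.range_le_tAut ⟨n, rfl⟩ t).2 ht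
  choose π hπ using fun n => P'.exists_rel (hT n)
  have hm : ∀ n, π n ∈ Cfsg.M24 := fun n => by
    rw [← M24_eq_setSystemAut, ← hocts]
    exact P'.rel_mem_aut (hπ n)
  let ψ : ↥S.NV →* ↥Cfsg.M24 := MonoidHom.mk' (fun n => ⟨π n, hm n⟩) fun m n => Subtype.ext
    (P'.rel_unique (hπ (m * n)) (by rw [map_mul]; exact P'.rel_comp (hπ m) (hπ n)))
  have hker : ψ.ker = S.Vb.subgroupOf S.NV := by
    rw [← S.ker_normAut]
    ext n
    rw [MonoidHom.mem_ker, MonoidHom.mem_ker]
    constructor
    · intro h
      have h' : π n = 1 := congrArg Subtype.val h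
      refine MulEquiv.toMonoidHom_injective (MonoidHom.eq_of_eqOn_dense P'.gen fun t ht => ?_)
      obtain ⟨p, q, hpq, rfl⟩ := P'.surj t ht
      show S.normAut n _ = (1 : MulAut ↥S.Vb) _
      rw [hπ n p q hpq, h']
      rfl
    · intro h
      exact Subtype.ext (P'.rel_unique (hπ n) (by rw [h]; exact P'.rel_one))
  have hsurj : Function.Surjective ψ := by
    rw [← MonoidHom.range_eq_top]
    refine Subgroup.eq_top_of_card_eq _ ?_
    have h := ψ.ker.index_mul_card
    rw [Subgroup.index_ker, hker, Nat.card_congr (Subgroup.subgroupOfEquivOfLe S.Vb_le_NV).toEquiv, S.card_Vb,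
      C.card_NV, mul_comm] at h
    rw [Cfsg.Lib.Concrete.card_M24]
    exact Nat.eq_of_mul_eq_mul_left (by norm_num) h
  exact ⟨⟨P'.f, ψ, hoct, hker, hsurj, fun n x y hxy => hπ n x y hxy, hinj, hcover, fun x =>
    ⟨fun h => P'.surj x h, fun ⟨a, b, hab, h⟩ => h ▸ P'.pair a b hab⟩⟩⟩

namespace TenModel

variable (T : TenModel S)

/-- The element with given coordinates. -/
noncomputable def el (v : ℕ) : ↥S.Vb := elM T.f v

theorem el_xor (v w : ℕ) : T.el (v ^^^ w) = T.el v * T.el w := elM_xor T.f vb_sq v w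

theorem el_zero : T.el 0 = 1 := by
  have := T.el_xor 0 0
  rwa [Nat.xor_self, vb_sq] at this

theorem el_eq_one {v : ℕ} (hv : v < 2048) (h : T.el v = 1) : v = 0 :=
  T.inj v hv 0 (by norm_num) (h.trans T.el_zero.symm)

theorem el_lin (L : List ℕ) (v : ℕ) :
    T.el (lin L v) = ((List.range 11).map fun i => pickB (v.testBit i) (T.el (L.getD i 0))).prod := by
  have hfold : ∀ (l : List ℕ) (r : ℕ), T.el (l.foldl (fun r i => r ^^^ cst (v.testBit i) (L.getD i 0)) r) =
      T.el r * (l.map fun i => pickB (v.testBit i) (T.el (L.getD i 0))).prod := by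
    intro l
    induction l with
    | nil => intro r; simp
    | cons a l ih =>
      intro r
      rw [List.foldl_cons, ih, T.el_xor, List.map_cons, List.prod_cons, mul_assoc]
      congr 1
      cases v.testBit a
      · show T.el 0 * _ = 1 * _
        rw [T.el_zero]
      · rfl
  rw [lin, hfold, T.el_zero, one_mul]

theorem el_pair (x y : GolayPt) : T.f x * T.f y = T.el (pairC (gidx x).val (gidx y).val) :=
  elM_pair T.f vb_sq T.oct x y

theorem basic {k : ℕ} (hk : k < 11) :
    T.el (1 <<< k) = T.f (gpt ⟨k, by omega⟩) * T.f (gpt ⟨11, by norm_num⟩) := by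
  have h : ((List.range 11).all fun k => Nat.beq (expC (1 <<< k)) ((1 <<< k) ^^^ (1 <<< 11))) = true := by
    decide +kernel
  show prodM T.f (expC (1 <<< k)) = _
  rw [Nat.eq_of_beq_eq_true (List.all_eq_true.1 h k (List.mem_range.2 hk)), prodM_xor T.f vb_sq,
    prodM_bit T.f (show k < 24 by omega), prodM_bit T.f (show 11 < 24 by norm_num)]

theorem expand {v : ℕ} (hv : v < 2048) :
    T.el v = ((List.range 11).map fun i => pickB (v.testBit i) (T.el (1 <<< i))).prod := by
  have h : ((List.range 2048).all fun v => Nat.beq (lin ((List.range 11).map fun i => 1 <<< i) v) v) = true := by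
    decide +kernel
  conv_lhs => rw [← Nat.eq_of_beq_eq_true (List.all_eq_true.1 h v (List.mem_range.2 hv)), T.el_lin]
  refine congrArg List.prod (List.map_congr_left fun i hi => ?_)
  rw [List.getD_eq_getElem _ _ (by simpa using hi), List.getElem_map, List.getElem_range]

/-- Conjugation in coordinates. -/
theorem act_el (n : ↥S.NV) {p : ℕ} (hp : Rep (T.ψ n : Equiv.Perm GolayPt) p) {v : ℕ} (hv : v < 2048) :
    S.normAut n (T.el v) = T.el (lin (actL p) v) := by
  rw [T.expand hv, T.el_lin, map_list_prod, List.map_map]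
  refine congrArg List.prod (List.map_congr_left fun i hi => ?_)
  have hi' := List.mem_range.1 hi
  show S.normAut n (pickB (v.testBit i) (T.el (1 <<< i))) = _
  cases v.testBit i
  · exact map_one _
  show S.normAut n (T.el (1 <<< i)) = T.el _
  rw [T.basic hi', T.rel n _ _ (fun e => by
    have := congrArg gidx e
    rw [gidx_gpt, gidx_gpt] at this
    have := congrArg Fin.val this
    simp at this
    omega), T.el_pair, hp, hp, gidx_gpt, gidx_gpt]
  congr 1
  rw [actL, List.getD_eq_getElem _ _ (by simpa using hi'), List.getElem_map, List.getElem_range]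

end TenModel

end Cfsg.Lib.JankoFourTen
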