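import Cfsg.Agent.Lib.JankoFourTen.TenChecks
import Cfsg.Agent.Lib.Concrete.OctadStab

/-!
# A group of order `2¹⁰` over the pointwise stabilizer of an octad
-/

set_option autoImplicit false
set_option maxRecDepth 100000
set_option linter.style.haveILetI false
set_option linter.unusedSectionVars false

namespace Cfsg.Lib.JankoFourTen

open Cfsg Cfsg.Lib.Concrete Cfsg.Lib.JankoFour Cfsg.Lib.JankoFour.BitModel
open Cfsg.Lib.FusionSys.MathieuCert (toPerm toPerm_eq)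

attribute [local irreducible] toPerm

theorem rk_spec {i : ℕ} (hi : i < 16) : Rep (toPerm (rk i)) (rk i) ∧ toPerm (rk i) ∈ M24 := by
  have h := List.all_eq_true.1 rk_mat i (List.mem_range.2 hi)
  rw [Bool.and_eq_true] at h
  exact inMat_spec h.1

/-- The members over the group of order `2¹⁰`. -/
noncomputable def rg (i : ℕ) : ↥Cfsg.M24 :=
  if h : i < 16 then ⟨toPerm (rk i), (rk_spec h).2⟩ else 1

theorem rg_val {i : ℕ} (hi : i < 16) : (rg i : Equiv.Perm GolayPt) = toPerm (rk i) := by rw [rg, dif_pos hi]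

theorem rg_rep {i : ℕ} (hi : i < 16) : Rep (rg i : Equiv.Perm GolayPt) (rk i) := by
  rw [rg_val hi]
  exact (rk_spec hi).1

theorem rg_mul {i j : ℕ} (hi : i < 16) (hj : j < 16) : rg (i ^^^ j) = rg i * rg j := Subtype.ext
  ((rg_rep (Nat.xor_lt_two_pow (n := 4) hi hj)).ext ((rg_rep hi).mul (rg_rep hj)
    (List.all_eq_true.1 (List.all_eq_true.1 rk_mul i (List.mem_range.2 hi)) j (List.mem_range.2 hj))))

theorem rg_zero : rg 0 = 1 := by
  refine Subtype.ext ((rg_rep (show 0 < 16 by norm_num)).ext ?_)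
  rw [Nat.eq_of_beq_eq_true rk_one]
  exact rep_one

theorem rk_ne : ((List.range 16).all fun k => Nat.beq k 0 ||
    bits24.any fun m => !(Nat.beq (pget (rk k) m) m)) = true := by decide +kernel

theorem rg_inj {i j : ℕ} (hi : i < 16) (hj : j < 16) (h : rg i = rg j) : i = j := by
  have hk : i ^^^ j < 16 := Nat.xor_lt_two_pow (n := 4) hi hj
  have h1 : rg (i ^^^ j) = 1 := by rw [rg_mul hi hj, h, ← rg_mul hj hj, Nat.xor_self, rg_zero]
  have hc := List.all_eq_true.1 rk_ne _ (List.mem_range.2 hk)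
  rw [Bool.or_eq_true, Nat.beq_eq] at hc
  refine Nat.xor_eq_zero_iff.1 (hc.resolve_right fun hn => ?_)
  obtain ⟨m, hm, hne⟩ := List.any_eq_true.1 hn
  rw [Bool.not_eq_true', ← Bool.not_eq_true, Nat.beq_eq] at hne
  have hr := (rg_rep hk).apply ⟨m, mem_bits24.1 hm⟩
  rw [h1] at hr
  exact hne (hr.symm.trans (by rw [OneMemClass.coe_one, Equiv.Perm.one_apply, gidx_gpt]))

theorem wc_facts {a : ℕ} (ha : a < 64) : inW (wc a) = true ∧ wc a < 2048 ∧
    ∀ b < 64, wc (a ^^^ b) = wc a ^^^ wc b ∧ (wc a = wc b → a = b) := by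
  have h := List.all_eq_true.1 wc_spec a (List.mem_range.2 ha)
  simp only [Bool.and_eq_true, Nat.blt_eq, List.all_eq_true, List.mem_range, Nat.beq_eq] at h
  refine ⟨h.1.1, h.1.2, fun b hb => ⟨(h.2 b hb).1, fun e => ?_⟩⟩
  have h2 := (h.2 b hb).2
  rw [e, Nat.beq_refl, Bool.not_true, Bool.or_false, Nat.beq_eq] at h2
  exact h2

theorem wc_zero : wc 0 = 0 := by decide +kernel

theorem exists_wc {v : ℕ} (hv : v < 2048) (h : inW v = true) : ∃ a < 64, wc a = v := by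
  have hc := List.all_eq_true.1 inW_wc v (List.mem_range.2 hv)
  rw [h, Bool.not_true, Bool.false_or, List.contains_iff_mem] at hc
  obtain ⟨a, ha, e⟩ := List.getElem_of_mem hc
  exact ⟨a, tables_len.2.1 ▸ ha, by rw [wc, List.getD_eq_getElem _ _ ha]; exact e⟩

/-- A coordinate fixed by all the members lies in the part. -/
theorem inW_iff {v : ℕ} (hv : v < 2048) : inW v = true ↔ ∀ i < 16, lin (actL (rk i)) v = v := by
  have key : ∀ (l : List ℕ) (r : ℕ), (l.foldl (fun r i => r &&& fixMask (actL (rk i))) r).testBit v = true ↔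
      r.testBit v = true ∧ ∀ i ∈ l, (fixMask (actL (rk i))).testBit v = true := by
    intro l
    induction l with
    | nil => intro r; simp
    | cons a l ih =>
      intro r
      rw [List.foldl_cons, ih, Nat.testBit_and, Bool.and_eq_true]
      simp [and_assoc]
  rw [inW, ← Nat.eq_of_beq_eq_true fix_all, key, fullM, Nat.testBit_two_pow_sub_one, decide_eq_true hv]
  simp only [true_and, List.mem_range]
  exact forall₂_congr fun i _ => ⟨fun h => ((fixMask_spec (actL_lt _) v).1 h).2,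
    fun h => (fixMask_spec (actL_lt _) v).2 ⟨hv, h⟩⟩

/-- The octad. -/
def octO : Finset GolayPt := mset octMask

theorem octO_mem : octO ∈ octads :=
  (mset_mem_octads_iff (show octMask < 2 ^ 24 by decide)).2 (List.contains_iff_mem.1 octMask_mem)

theorem mem_octO {x : GolayPt} : x ∈ octO ↔ octMask.testBit (gidx x).val = true := mem_mset

theorem rg_fix {i : ℕ} (hi : i < 16) : (rg i : Equiv.Perm GolayPt) ∈ fixSet octO := by
  refine mem_fixSet.2 ⟨(rg i).2, fun x hx => gidx_injective (Fin.ext ?_)⟩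
  have h := List.all_eq_true.1 rk_mat i (List.mem_range.2 hi)
  rw [Bool.and_eq_true] at h
  have h2 := List.all_eq_true.1 h.2 _ (mem_bits24.2 (gidx x).isLt)
  rw [mem_octO.1 hx, Bool.not_true, Bool.false_or, Nat.beq_eq] at h2
  rw [rg_rep hi x, h2]

theorem exists_rg {g : ↥Cfsg.M24} (hg : ∀ x ∈ octO, (g : Equiv.Perm GolayPt) x = x) : ∃ i < 16, rg i = g := by
  classical
  have hb : Function.Bijective (fun i : Fin 16 => (⟨(rg i : Equiv.Perm GolayPt), rg_fix i.isLt⟩ : ↥(fixSet octO))) := by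
    refine (Nat.bijective_iff_injective_and_card _).2 ⟨fun a b h => Fin.ext (rg_inj a.isLt b.isLt
      (Subtype.ext (Subtype.mk.inj h))), ?_⟩
    rw [Nat.card_eq_fintype_card, Fintype.card_fin, card_fixSet_octad octO_mem]
  obtain ⟨i, hi⟩ := hb.2 ⟨g, mem_fixSet.2 ⟨g.2, hg⟩⟩
  exact ⟨i, i.isLt, Subtype.ext (congrArg (Subtype.val : ↥(fixSet octO) → Equiv.Perm GolayPt) hi)⟩

theorem ikey_rg {k : ℕ} (hk : k ∈ tenIdx) : ∃ i < 16, (rg i : Equiv.Perm GolayPt) = iel k := by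
  obtain ⟨i, hi, he⟩ := List.any_eq_true.1 (List.all_eq_true.1 rk_ten k hk)
  rw [List.mem_range] at hi
  exact ⟨i, hi, by rw [rg_val hi, iel, Nat.eq_of_beq_eq_true he]⟩

variable {G : Type*} [Group G] [Finite G] {A : Type} [Group A] {I : Subgroup A} {F : Frame G A I}
  {D : HexData A I}

/-- The standard group of order `2¹¹` with coordinates, a complement and the centralizer property. -/
structure TenSetup (S : Std F D) where
  /-- The coordinates. -/
  T : TenModel S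
  adapted : Adapted S
  /-- The complement. -/
  σ : ↥Cfsg.M24 →* ↥S.NV
  sec : ∀ g, T.ψ (σ g) = g
  cen : ∀ t : G, t ∈ S.Vb → t ≠ 1 → ¬ IsConj F.z t → Subgroup.centralizer ({t} : Set G) ≤ S.NV

/-- A self-centralizing group of order `2¹⁰` with trivial squares. -/
def IsTen (B : Subgroup G) : Prop :=
  (∀ x ∈ B, x * x = 1) ∧ Nat.card ↥B = 2 ^ 10 ∧ Subgroup.centralizer (B : Set G) = B

namespace TenSetup

variable {S : Std F D} (P : TenSetup S)

/-- An element of the standard group with given coordinates. -/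
noncomputable def ev (v : ℕ) : G := (P.T.el v : G)

/-- An element of the complement. -/
noncomputable def sg (g : ↥Cfsg.M24) : G := (P.σ g : G)

theorem ev_mem (v : ℕ) : P.ev v ∈ S.Vb := (P.T.el v).2

theorem sg_mem (g : ↥Cfsg.M24) : P.sg g ∈ S.NV := (P.σ g).2

theorem ev_xor (v w : ℕ) : P.ev (v ^^^ w) = P.ev v * P.ev w := congrArg Subtype.val (P.T.el_xor v w)

theorem ev_zero : P.ev 0 = 1 := congrArg Subtype.val P.T.el_zero

theorem ev_inj {v w : ℕ} (hv : v < 2048) (hw : w < 2048) (h : P.ev v = P.ev w) : v = w :=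
  P.T.inj v hv w hw (Subtype.ext h)

theorem exists_ev {x : G} (hx : x ∈ S.Vb) : ∃ v < 2048, P.ev v = x := by
  obtain ⟨v, hv, h⟩ := P.T.cover ⟨x, hx⟩
  exact ⟨v, hv, congrArg Subtype.val h⟩

theorem sg_mul (g h : ↥Cfsg.M24) : P.sg (g * h) = P.sg g * P.sg h := by
  rw [sg, map_mul, Subgroup.coe_mul]
  rfl

theorem sg_one : P.sg 1 = 1 := by rw [sg, map_one, Subgroup.coe_one]

theorem sg_inv (g : ↥Cfsg.M24) : P.sg g⁻¹ = (P.sg g)⁻¹ := by rw [sg, map_inv, Subgroup.coe_inv]; rfl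

/-- Conjugation of the coordinates by a complement. -/
theorem sg_ev {g : ↥Cfsg.M24} {p : ℕ} (hp : Rep (g : Equiv.Perm GolayPt) p) {v : ℕ} (hv : v < 2048) :
    P.sg g * P.ev v = P.ev (lin (actL p) v) * P.sg g := by
  have h := congrArg Subtype.val (P.T.act_el (P.σ g) (p := p) (by rw [P.sec]; exact hp) hv)
  rw [S.normAut_apply] at h
  exact mul_inv_eq_iff_eq_mul.1 h

theorem psi_ev (v : ℕ) : P.T.ψ ⟨P.ev v, S.Vb_le_NV (P.ev_mem v)⟩ = 1 := by
  rw [← MonoidHom.mem_ker, P.T.ker, Subgroup.mem_subgroupOf]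
  exact P.ev_mem v

/-- A member of the normalizer as a product. -/
theorem decomp {x : G} (hx : x ∈ S.NV) : ∃ v < 2048, x = P.ev v * P.sg (P.T.ψ ⟨x, hx⟩) := by
  have h : (⟨x, hx⟩ : ↥S.NV) * (P.σ (P.T.ψ ⟨x, hx⟩))⁻¹ ∈ P.T.ψ.ker := by
    rw [MonoidHom.mem_ker, map_mul, map_inv, P.sec, mul_inv_cancel]
  rw [P.T.ker, Subgroup.mem_subgroupOf] at h
  obtain ⟨v, hv, e⟩ := P.exists_ev h
  refine ⟨v, hv, ?_⟩
  rw [e]
  exact (inv_mul_cancel_right x _).symm

/-- The product is unique. -/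
theorem decomp_unique {v w : ℕ} {g h : ↥Cfsg.M24} (hv : v < 2048) (hw : w < 2048)
    (e : P.ev v * P.sg g = P.ev w * P.sg h) : v = w ∧ g = h := by
  have key : ∀ (v : ℕ) (g : ↥Cfsg.M24) (hm : P.ev v * P.sg g ∈ S.NV), P.T.ψ ⟨P.ev v * P.sg g, hm⟩ = g := fun v g hm => by
    rw [show (⟨P.ev v * P.sg g, hm⟩ : ↥S.NV) = ⟨P.ev v, S.Vb_le_NV (P.ev_mem v)⟩ * P.σ g from Subtype.ext rfl,
      map_mul, P.psi_ev, P.sec, one_mul]
  have hg : g = h := by
    rw [← key v g (mul_mem (S.Vb_le_NV (P.ev_mem v)) (P.sg_mem g)),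
      ← key w h (mul_mem (S.Vb_le_NV (P.ev_mem w)) (P.sg_mem h))]
    exact congrArg P.T.ψ (Subtype.ext e)
  subst hg
  exact ⟨P.ev_inj hv hw (mul_right_cancel e), rfl⟩

/-- The member with a given code. -/
noncomputable def ph (x : ℕ) : G := P.ev (wc (x % 64)) * P.sg (rg (x / 64))

theorem fix_rg {a i : ℕ} (ha : a < 64) (hi : i < 16) : Commute (P.sg (rg i)) (P.ev (wc a)) := by
  show _ * _ = _ * _
  rw [P.sg_ev (rg_rep hi) (wc_facts ha).2.1, Nat.eq_of_beq_eq_true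
    (List.all_eq_true.1 (List.all_eq_true.1 wc_fixed i (List.mem_range.2 hi)) a (List.mem_range.2 ha))]

theorem ph_xor {x y : ℕ} (hx : x < 1024) (hy : y < 1024) : P.ph (x ^^^ y) = P.ph x * P.ph y := by
  have e1 : (x ^^^ y) % 64 = x % 64 ^^^ y % 64 := Nat.xor_mod_two_pow (n := 6)
  have e2 : (x ^^^ y) / 64 = x / 64 ^^^ y / 64 := Nat.xor_div_two_pow (n := 6)
  rw [ph, ph, ph, e1, e2, ((wc_facts (Nat.mod_lt x (by norm_num))).2.2 _ (Nat.mod_lt y (by norm_num))).1, P.ev_xor,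
    rg_mul (by omega) (by omega), P.sg_mul, mul_assoc (P.ev _) (P.sg _),
    ← mul_assoc (P.sg (rg (x / 64))) (P.ev _), (P.fix_rg (Nat.mod_lt y (by norm_num)) (show x / 64 < 16 by omega)).eq]
  group

theorem ph_zero : P.ph 0 = 1 := by rw [ph, Nat.zero_mod, Nat.zero_div, wc_zero, P.ev_zero, rg_zero, P.sg_one, one_mul]

theorem ph_inj {x y : ℕ} (hx : x < 1024) (hy : y < 1024) (h : P.ph x = P.ph y) : x = y := by
  obtain ⟨h1, h2⟩ := P.decomp_unique (wc_facts (Nat.mod_lt x (by norm_num))).2.1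
    (wc_facts (Nat.mod_lt y (by norm_num))).2.1 h
  have e1 := ((wc_facts (Nat.mod_lt x (show 0 < 64 by norm_num))).2.2 _ (Nat.mod_lt y (by norm_num))).2 h1
  have e2 := rg_inj (show x / 64 < 16 by omega) (show y / 64 < 16 by omega) h2
  omega

/-- The group of order `2¹⁰`. -/
noncomputable def A0 : Subgroup G where
  carrier := {g | ∃ x < 1024, P.ph x = g}
  one_mem' := ⟨0, by norm_num, P.ph_zero⟩
  mul_mem' := by
    rintro _ _ ⟨x, hx, rfl⟩ ⟨y, hy, rfl⟩
    exact ⟨x ^^^ y, Nat.xor_lt_two_pow (n := 10) hx hy, P.ph_xor hx hy⟩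
  inv_mem' := by
    rintro _ ⟨x, hx, rfl⟩
    refine ⟨x, hx, eq_inv_of_mul_eq_one_left ?_⟩
    rw [← P.ph_xor hx hx, Nat.xor_self, P.ph_zero]

theorem mem_A0 {g : G} : g ∈ P.A0 ↔ ∃ x < 1024, P.ph x = g := Iff.rfl

theorem A0_sq {g : G} (hg : g ∈ P.A0) : g * g = 1 := by
  obtain ⟨x, hx, rfl⟩ := hg
  rw [← P.ph_xor hx hx, Nat.xor_self, P.ph_zero]

theorem A0_comm {g h : G} (hg : g ∈ P.A0) (hh : h ∈ P.A0) : Commute g h :=
  JankoFour.commute_of_sq (fun _ hx => P.A0_sq hx) hg hh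

theorem A0_le : P.A0 ≤ S.NV := by
  rintro _ ⟨x, -, rfl⟩
  exact mul_mem (S.Vb_le_NV (P.ev_mem _)) (P.sg_mem _)

theorem card_A0 : Nat.card ↥P.A0 = 2 ^ 10 := by
  rw [← Nat.card_congr (Equiv.ofBijective (fun x : Fin 1024 => (⟨P.ph x, x, x.isLt, rfl⟩ : ↥P.A0))
    ⟨fun a b h => Fin.ext (P.ph_inj a.isLt b.isLt (congrArg Subtype.val h)), fun g => by
      obtain ⟨x, hx, e⟩ := g.2
      exact ⟨⟨x, hx⟩, Subtype.ext e⟩⟩), Nat.card_eq_fintype_card, Fintype.card_fin]
  norm_num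

theorem ph_low {a : ℕ} (ha : a < 64) : P.ph a = P.ev (wc a) := by
  rw [ph, Nat.mod_eq_of_lt ha, Nat.div_eq_of_lt ha, rg_zero, P.sg_one, mul_one]

theorem ph_high {i : ℕ} (hi : i < 16) : P.ph (64 * i) = P.sg (rg i) := by
  rw [ph, show 64 * i % 64 = 0 by omega, show 64 * i / 64 = i by omega, wc_zero, P.ev_zero, one_mul]

theorem ev_mem_A0 {v : ℕ} (hv : v < 2048) : P.ev v ∈ P.A0 ↔ inW v = true := by
  constructor
  · rintro ⟨x, hx, e⟩
    have h : P.ev (wc (x % 64)) * P.sg (rg (x / 64)) = P.ev v * P.sg 1 := by rw [P.sg_one, mul_one]; exact e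
    rw [← (P.decomp_unique (wc_facts (Nat.mod_lt x (by norm_num))).2.1 hv h).1]
    exact (wc_facts (Nat.mod_lt x (by norm_num))).1
  · intro h
    obtain ⟨a, ha, rfl⟩ := exists_wc hv h
    exact ⟨a, by omega, P.ph_low ha⟩

theorem low_of_mem_Vb {x : ℕ} (hx : x < 1024) (h : P.ph x ∈ S.Vb) : x < 64 := by
  obtain ⟨v, hv, e⟩ := P.exists_ev h
  have h' : P.ev (wc (x % 64)) * P.sg (rg (x / 64)) = P.ev v * P.sg 1 := by
    rw [P.sg_one, mul_one, e]
    rfl
  have h2 := (P.decomp_unique (wc_facts (Nat.mod_lt x (by norm_num))).2.1 hv h').2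
  rw [← rg_zero] at h2
  have := rg_inj (show x / 64 < 16 by omega) (by norm_num) h2
  omega

/-- The classes of the members in the standard group. -/
theorem ev_dset {v : ℕ} (hv : v < 2048) :
    P.ev v ≠ 1 ∧ ¬ IsConj F.z (P.ev v) ↔ inPairs v = true := by
  have h : P.T.el v ∈ S.dSet ↔ ∃ a b, a ≠ b ∧ P.T.f a * P.T.f b = P.T.el v := P.T.dset _
  constructor
  · rintro ⟨h1, h2⟩
    obtain ⟨a, b, hab, e⟩ := h.1 ⟨fun e => h1 (congrArg Subtype.val e), h2⟩
    rw [P.T.el_pair] at e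
    refine List.any_eq_true.2 ⟨_, mem_bits24.2 (gidx a).isLt, List.any_eq_true.2 ⟨_, mem_bits24.2 (gidx b).isLt, ?_⟩⟩
    rw [Bool.and_eq_true, Bool.not_eq_true', Nat.beq_eq]
    refine ⟨Bool.eq_false_iff.2 fun hb => hab (gidx_injective (Fin.ext (Nat.eq_of_beq_eq_true hb))), ?_⟩
    exact P.T.inj _ (pairC_lt _ _) v hv e
  · intro hp
    obtain ⟨a, ha, hp⟩ := List.any_eq_true.1 hp
    obtain ⟨b, hb, hp⟩ := List.any_eq_true.1 hp
    rw [Bool.and_eq_true, Bool.not_eq_true', Nat.beq_eq] at hp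
    have hd := h.2 ⟨gpt ⟨a, mem_bits24.1 ha⟩, gpt ⟨b, mem_bits24.1 hb⟩, fun e => by
      obtain rfl : a = b := congrArg Fin.val (gpt_injective e)
      rw [Nat.beq_refl] at hp
      exact Bool.noConfusion hp.1, by rw [P.T.el_pair, gidx_gpt, gidx_gpt, hp.2]⟩
    exact ⟨fun e => hd.1 (Subtype.ext e), hd.2⟩

end TenSetup

end Cfsg.Lib.JankoFourTen
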