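import Cfsg.Agent.Lib.JankoFourTen.CoordData
import Cfsg.Agent.Lib.JankoFour.BitModel.Aut
import Cfsg.Agent.Lib.JankoFour.Code
import Cfsg.Agent.Lib.Concrete.Golay
import Cfsg.Agent.Lib.Concrete.GolayPerm

/-!
# A product over the points of a mask and its coordinates
-/

set_option autoImplicit false
set_option linter.style.haveILetI false

namespace Cfsg.Lib.JankoFourTen

open Cfsg Cfsg.Lib.Concrete Cfsg.Lib.JankoFour Cfsg.Lib.JankoFour.BitModel

/-- The masks of the basic pairs. -/
def pairL : List ℕ := (List.range 11).map fun k => (1 <<< k) ^^^ (1 <<< 11)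

/-- The mask with given coordinates. -/
def expC (v : ℕ) : ℕ := lin pairL v

/-- The mask of a point. -/
def cPt (a : ℕ) : ℕ := ptMask.getD a 0

/-- The coordinates of a pair of points. -/
def pairC (a b : ℕ) : ℕ := (cPt a ^^^ cPt b) &&& 2047

/-- The combination of the basic octads. -/
def octComb (m : ℕ) : ℕ :=
  (List.range 12).foldl (fun r i => r ^^^ cst (m.testBit i) (octBasis.getD i 0)) 0

theorem rel_ok : ((List.range 24).all fun a => Nat.beq ((1 <<< a) ^^^ (1 <<< 11) ^^^ expC (pairC a 11))
    (octComb (ptRel.getD a 0))) = true := by decide +kernel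

theorem pair_split_ok : ((List.range 24).all fun a => (List.range 24).all fun b =>
    Nat.beq (pairC a b) (pairC a 11 ^^^ pairC b 11)) = true := by decide +kernel

theorem octBasis_ok : ((List.range 12).all fun i => octList.contains (octBasis.getD i 0)) = true := by
  decide +kernel

theorem pairC_lt (a b : ℕ) : pairC a b < 2048 := by
  rw [pairC]
  exact lt_of_le_of_lt Nat.and_le_right (by norm_num)

theorem pairC_add {a b : ℕ} (ha : a < 24) (hb : b < 24) : pairC a b = pairC a 11 ^^^ pairC b 11 :=
  Nat.eq_of_beq_eq_true (List.all_eq_true.1 (List.all_eq_true.1 pair_split_ok a (List.mem_range.2 ha)) b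
    (List.mem_range.2 hb))

variable {H : Type*} [CommGroup H] (f : GolayPt → H)

/-- The product over the points of a mask. -/
def prodM (m : ℕ) : H := ∏ x : GolayPt, pickB (m.testBit (gidx x).val) (f x)

theorem prodM_zero : prodM f 0 = 1 := by simp [prodM, pickB]

theorem prodM_eq_prod (m : ℕ) : prodM f m = ∏ x ∈ mset m, f x := by
  rw [prodM, mset, Finset.prod_filter]
  exact Finset.prod_congr rfl fun x _ => rfl

theorem prodM_bit {a : ℕ} (ha : a < 24) : prodM f (1 <<< a) = f (gpt ⟨a, ha⟩) := by
  rw [prodM, Finset.prod_eq_single (gpt ⟨a, ha⟩)]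
  · simp [gidx_gpt, pickB, Nat.one_shiftLeft]
  · intro x _ hx
    have hne : a ≠ (gidx x).val := fun e => hx (gidx_injective (Fin.ext (by rw [gidx_gpt]; exact e.symm)))
    simp [pickB, Nat.one_shiftLeft, hne]
  · exact fun h => absurd (Finset.mem_univ _) h

variable (hsq : ∀ x : H, x * x = 1)
include hsq

theorem prodM_xor (m n : ℕ) : prodM f (m ^^^ n) = prodM f m * prodM f n := by
  rw [prodM, prodM, prodM, ← Finset.prod_mul_distrib]
  exact Finset.prod_congr rfl fun x _ => by rw [Nat.testBit_xor, pickB_xor (hsq (f x))]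

theorem prodM_fold (L : List ℕ) (g : ℕ → ℕ) : ∀ r,
    prodM f (L.foldl (fun r i => r ^^^ g i) r) = prodM f r * (L.map fun i => prodM f (g i)).prod := by
  induction L with
  | nil => intro r; simp
  | cons a l ih =>
    intro r
    rw [List.foldl_cons, ih, prodM_xor f hsq, List.map_cons, List.prod_cons, mul_assoc]

theorem prodM_cst (b : Bool) (m : ℕ) : prodM f (cst b m) = pickB b (prodM f m) := by
  cases b
  · exact prodM_zero f
  · rfl

theorem prodM_lin (L : List ℕ) (v : ℕ) :
    prodM f (lin L v) = ((List.range 11).map fun i => pickB (v.testBit i) (prodM f (L.getD i 0))).prod := by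
  rw [lin, prodM_fold f hsq, prodM_zero, one_mul]
  exact congrArg List.prod (List.map_congr_left fun i _ => prodM_cst f hsq _ _)

/-- The element with given coordinates. -/
def elM (v : ℕ) : H := prodM f (expC v)

theorem elM_xor (v w : ℕ) : elM f (v ^^^ w) = elM f v * elM f w := by
  rw [elM, expC, lin_xor, prodM_xor f hsq]
  rfl

variable (hoct : ∀ o ∈ octList, prodM f o = 1)
include hoct

theorem prodM_octComb (m : ℕ) : prodM f (octComb m) = 1 := by
  rw [octComb, prodM_fold f hsq, prodM_zero, one_mul]
  refine List.prod_eq_one fun x hx => ?_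
  obtain ⟨i, hi, rfl⟩ := List.mem_map.1 hx
  rw [prodM_cst f hsq, hoct _ (List.contains_iff_mem.1 (List.all_eq_true.1 octBasis_ok i hi))]
  cases m.testBit i <;> rfl

theorem elM_pair_base {a : ℕ} (ha : a < 24) :
    f (gpt ⟨a, ha⟩) * f (gpt ⟨11, by norm_num⟩) = elM f (pairC a 11) := by
  have h := prodM_octComb f hsq hoct (ptRel.getD a 0)
  rw [← Nat.eq_of_beq_eq_true (List.all_eq_true.1 rel_ok a (List.mem_range.2 ha)), prodM_xor f hsq,
    prodM_xor f hsq, prodM_bit f ha, prodM_bit f (show 11 < 24 by norm_num)] at h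
  calc _ = f (gpt ⟨a, ha⟩) * f (gpt ⟨11, by norm_num⟩) * (elM f (pairC a 11) * elM f (pairC a 11)) := by
        rw [hsq (elM f _), mul_one]
    _ = elM f (pairC a 11) := by rw [← mul_assoc, elM, h, one_mul]

/-- The product of a pair. -/
theorem elM_pair (x y : GolayPt) : f x * f y = elM f (pairC (gidx x).val (gidx y).val) := by
  rw [pairC_add (gidx x).isLt (gidx y).isLt, elM_xor f hsq, ← elM_pair_base f hsq hoct (gidx x).isLt,
    ← elM_pair_base f hsq hoct (gidx y).isLt, Fin.eta, Fin.eta, gpt_gidx, gpt_gidx, mul_mul_mul_comm, hsq (f (gpt _)),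
    mul_one]

end Cfsg.Lib.JankoFourTen
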