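/-!
# Coordinates on the even sets of points modulo the Golay code
-/

set_option autoImplicit false

namespace Cfsg.Lib.JankoFourTen

/-- The canonical masks of the points. -/
def ptMask : List Nat := [1, 2, 4, 8, 16, 32, 64, 128, 256, 512, 1024, 2048, 1183, 2366, 1763, 3526, 3859, 2745, 493, 986, 1972, 3944, 2639, 3189]

/-- Twelve independent octads. -/
def octBasis : List Nat := [5279, 10558, 18147, 36294, 69395, 133817, 262637, 525274, 1050548, 2101096, 4196943, 8391797]

/-- The relations of the points. -/
def ptRel : List Nat := [0, 0, 0, 0, 0, 0, 0, 0, 0, 0, 0, 0, 1, 2, 4, 8, 16, 32, 64, 128, 256, 512, 1024, 2048]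

end Cfsg.Lib.JankoFourTen
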