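import Cfsg.Agent.Lib.JankoFourTen.Model
import Cfsg.Agent.Lib.JankoFourTen.SylowData

/-!
# The fixed vectors of a permutation as a mask
-/

set_option autoImplicit false
set_option maxRecDepth 100000

namespace Cfsg.Lib.JankoFourTen

open Cfsg Cfsg.Lib.Concrete Cfsg.Lib.JankoFour.BitModel

/-- The number of bits below a bound. -/
def bitSum : ℕ → ℕ → ℕ
  | 0, _ => 0
  | n + 1, x => x % 2 + bitSum n (x / 2)

theorem bitSum_eq : ∀ (n x : ℕ), bitSum n x = ((Finset.range n).filter fun i => x.testBit i).card := by
  intro n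
  induction n with
  | zero => intro x; simp [bitSum]
  | succ n ih =>
    intro x
    rw [bitSum, ih, Finset.card_filter, Finset.card_filter, Finset.sum_range_succ', add_comm (x % 2)]
    simp only [Nat.testBit_succ, Nat.testBit_zero]
    congr 1
    rcases Nat.mod_two_eq_zero_or_one x with h | h <;> rw [h] <;> simp

/-- The number of bits, up to the fuel. -/
def cntUp : ℕ → ℕ → ℕ
  | 0, _ => 0
  | f + 1, x => bif Nat.beq x 0 then 0 else 1 + cntUp f (x &&& (x - 1))

theorem bitSum_zero : ∀ n, bitSum n 0 = 0
  | 0 => rfl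
  | n + 1 => by simp [bitSum, bitSum_zero n]

theorem and_pred_odd (x : ℕ) (h : x % 2 = 1) : x &&& (x - 1) = x - 1 := by
  refine Nat.eq_of_testBit_eq fun i => ?_
  rw [Nat.testBit_and]
  cases i with
  | zero => simp only [Nat.testBit_zero, decide_eq_true_eq]; simp [show (x - 1) % 2 = 0 by omega]
  | succ j =>
    rw [Nat.testBit_succ, Nat.testBit_succ, show (x - 1) / 2 = x / 2 by omega, Bool.and_self]

theorem and_pred_even (x : ℕ) (h : x % 2 = 0) (h0 : x ≠ 0) :
    x &&& (x - 1) = 2 * (x / 2 &&& (x / 2 - 1)) := by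
  refine Nat.eq_of_testBit_eq fun i => ?_
  rw [Nat.testBit_and]
  cases i with
  | zero => simp only [Nat.testBit_zero, h, Nat.mul_mod_right]; simp
  | succ j =>
    rw [Nat.testBit_succ, Nat.testBit_succ, Nat.testBit_succ, show (x - 1) / 2 = x / 2 - 1 by omega,
      Nat.mul_div_cancel_left _ (by norm_num : 0 < 2), Nat.testBit_and]

theorem bitSum_and_pred : ∀ n x, x ≠ 0 → x < 2 ^ n → bitSum n x = 1 + bitSum n (x &&& (x - 1)) := by
  intro n
  induction n with
  | zero => intro x h0 hx; simp at hx; exact absurd hx h0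
  | succ n ih =>
    intro x h0 hx
    rcases Nat.mod_two_eq_zero_or_one x with h | h
    · rw [and_pred_even x h h0, bitSum, bitSum, h, Nat.mul_mod_right, Nat.mul_div_cancel_left _ (by norm_num : 0 < 2),
        ih (x / 2) (by omega) (by rw [pow_succ] at hx; omega)]
      omega
    · rw [and_pred_odd x h, bitSum, bitSum, h, show (x - 1) % 2 = 0 by omega, show (x - 1) / 2 = x / 2 by omega]
      omega

theorem cntUp_eq : ∀ (f n x : ℕ), x < 2 ^ n → cntUp f x = min f (bitSum n x) := by
  intro f
  induction f with
  | zero => intro n x _; simp [cntUp]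
  | succ f ih =>
    intro n x hx
    by_cases h0 : x = 0
    · subst h0
      rw [bitSum_zero, Nat.min_zero]
      rfl
    · have hb : Nat.beq x 0 = false := by
        cases h : Nat.beq x 0
        · rfl
        · exact absurd (Nat.eq_of_beq_eq_true h) h0
      rw [cntUp, hb, cond_false, ih n _ (lt_of_le_of_lt Nat.and_le_left hx), bitSum_and_pred n x h0 hx]
      omega

/-- The mask of all coordinates. -/
def fullM : ℕ := 2 ^ 2048 - 1

/-- The mask of the coordinates whose image has a given bit. -/
def imgBit (L : List ℕ) (i : ℕ) : ℕ :=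
  (List.range 11).foldl (fun r k => r ^^^ cst ((L.getD k 0).testBit i) (bitL.getD k 0)) 0

/-- The fixed coordinates of a linear map. -/
def fixMask (L : List ℕ) : ℕ :=
  (List.range 11).foldl (fun r i => r &&& (fullM ^^^ (imgBit L i ^^^ bitL.getD i 0))) fullM

theorem bitL_ok : ((List.range 11).all fun k => Nat.blt (bitL.getD k 0) (2 ^ 2048) && (List.range 2048).all fun v =>
    (bitL.getD k 0).testBit v == v.testBit k) = true := by decide +kernel

theorem bitL_bit {k v : ℕ} (hk : k < 11) (hv : v < 2048) : (bitL.getD k 0).testBit v = v.testBit k := by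
  have h := List.all_eq_true.1 bitL_ok k (List.mem_range.2 hk)
  rw [Bool.and_eq_true] at h
  exact beq_iff_eq.1 (List.all_eq_true.1 h.2 v (List.mem_range.2 hv))

theorem imgBit_spec (L : List ℕ) (i : ℕ) {v : ℕ} (hv : v < 2048) :
    (imgBit L i).testBit v = (lin L v).testBit i := by
  have key : ∀ (l : List ℕ), (∀ k ∈ l, k < 11) → ∀ r r', r.testBit v = r'.testBit i →
      (l.foldl (fun r k => r ^^^ cst ((L.getD k 0).testBit i) (bitL.getD k 0)) r).testBit v =
      (l.foldl (fun r k => r ^^^ cst (v.testBit k) (L.getD k 0)) r').testBit i := by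
    intro l
    induction l with
    | nil => intro _ r r' h; simpa using h
    | cons a l ih =>
      intro hl r r' h
      rw [List.foldl_cons, List.foldl_cons]
      refine ih (fun k hk => hl k (List.mem_cons_of_mem _ hk)) _ _ ?_
      rw [Nat.testBit_xor, Nat.testBit_xor, h]
      congr 1
      have hb := bitL_bit (hl a (List.mem_cons_self ..)) hv
      cases h1 : (L.getD a 0).testBit i <;> cases h2 : v.testBit a <;> simp_all [cst]
  exact key _ (fun k hk => List.mem_range.1 hk) 0 0 (by simp)

theorem lin_lt {L : List ℕ} (hL : ∀ x ∈ L, x < 2048) (v : ℕ) : lin L v < 2048 := by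
  have key : ∀ (l : List ℕ) r, r < 2048 →
      l.foldl (fun r i => r ^^^ cst (v.testBit i) (L.getD i 0)) r < 2048 := by
    intro l
    induction l with
    | nil => intro r hr; simpa using hr
    | cons a l ih =>
      intro r hr
      rw [List.foldl_cons]
      refine ih _ (Nat.xor_lt_two_pow (n := 11) hr ?_)
      cases v.testBit a
      · simp [cst]
      · by_cases ha : a < L.length
        · simp only [cst, if_true, List.getD_eq_getElem _ _ ha]
          exact hL _ (List.getElem_mem ha)
        · simp [cst, List.getElem?_eq_none (by omega : L.length ≤ a)]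
  exact key _ 0 (by norm_num)

theorem fixMask_spec {L : List ℕ} (hL : ∀ x ∈ L, x < 2048) (v : ℕ) :
    (fixMask L).testBit v = true ↔ v < 2048 ∧ lin L v = v := by
  have hfull : ∀ w, fullM.testBit w = decide (w < 2048) := fun w => Nat.testBit_two_pow_sub_one 2048 w
  have key : ∀ (l : List ℕ) r,
      (l.foldl (fun r i => r &&& (fullM ^^^ (imgBit L i ^^^ bitL.getD i 0))) r).testBit v = true ↔
      r.testBit v = true ∧ ∀ i ∈ l, (fullM ^^^ (imgBit L i ^^^ bitL.getD i 0)).testBit v = true := by
    intro l
    induction l with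
    | nil => intro r; simp
    | cons a l ih =>
      intro r
      rw [List.foldl_cons, ih, Nat.testBit_and, Bool.and_eq_true]
      simp [and_assoc]
  rw [fixMask, key, hfull, decide_eq_true_eq]
  refine and_congr_right fun hv => ?_
  have hone : ∀ i < 11, (fullM ^^^ (imgBit L i ^^^ bitL.getD i 0)).testBit v = true ↔
      (lin L v).testBit i = v.testBit i := fun i hi => by
    rw [Nat.testBit_xor, Nat.testBit_xor, hfull, imgBit_spec L i hv, bitL_bit hi hv]
    cases (lin L v).testBit i <;> cases v.testBit i <;> simp [hv]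
  constructor
  · intro h
    refine Nat.eq_of_testBit_eq fun i => ?_
    by_cases hi : i < 11
    · exact (hone i hi).1 (h i (List.mem_range.2 hi))
    · rw [Nat.testBit_lt_two_pow (lt_of_lt_of_le (lin_lt hL v) (Nat.pow_le_pow_right (show 0 < 2 by norm_num) (by omega : 11 ≤ i))),
        Nat.testBit_lt_two_pow (lt_of_lt_of_le hv (Nat.pow_le_pow_right (show 0 < 2 by norm_num) (by omega : 11 ≤ i)))]
  · intro h i hi
    exact (hone i (List.mem_range.1 hi)).2 (by rw [h])

theorem actL_lt (p : ℕ) : ∀ x ∈ actL p, x < 2048 := fun x hx => by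
  obtain ⟨k, -, rfl⟩ := List.mem_map.1 hx
  exact pairC_lt _ _

end Cfsg.Lib.JankoFourTen
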