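import Cfsg.Agent.Lib.JankoFourTen.TenChecks
import Cfsg.Agent.Lib.JankoFourTen.LabelData

/-!
# Evaluation of the checks on the labels and on the complement
-/

set_option autoImplicit false
set_option maxRecDepth 100000

namespace Cfsg.Lib.JankoFourTen

open Cfsg Cfsg.Lib.Concrete Cfsg.Lib.JankoFour.BitModel

/-- The mask of the class of `z`. -/
def zMask : ℕ := orbL.getD 1 0 ||| orbL.getD 2 0

/-- The mask of the other class. -/
def dMask : ℕ := orbL.getD 0 0 ||| orbL.getD 3 0

/-- The members meeting a given one in a member of the class of `z`. -/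
def inK (s x : ℕ) : Bool := zMask.testBit x && zMask.testBit (x ^^^ s)

/-- A member of a subgroup by its coordinates. -/
def lab (h y : ℕ) : ℕ := lin (labBase.getD h []) y

theorem lab_mask : ((List.range 32).all fun h => Nat.beq h 0 ||
    (Nat.beq ((List.range 64).foldl (fun r y => r ||| 1 <<< lab h y) 0) (labMask.getD h 0) &&
      (List.range 64).all fun y => Nat.blt (lab h y) 1024)) = true := by decide +kernel

theorem lab_card : ((List.range 32).all fun h => Nat.beq h 0 ||
    (List.range 64).all fun y => Nat.beq y 0 || !(Nat.beq (lab h y) 0)) = true := by decide +kernel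

theorem lab_rep : ((List.range 32).all fun h => Nat.beq h 0 ||
    (dMask.testBit (labRep.getD h 0) && Nat.blt (labRep.getD h 0) 1024 && (List.range 6).all fun k =>
      Nat.blt ((labBase.getD h []).getD k 0) 1024 &&
        inK (labRep.getD h 0) ((labBase.getD h []).getD k 0))) = true := by decide +kernel

theorem lab_std : ((List.range 1024).all fun x => !(inK 1 x) || Nat.blt x 64) = true := by decide +kernel

theorem lab_distinct : ((List.range 32).all fun a => (List.range 32).all fun b =>
    Nat.beq a 0 || Nat.beq b 0 || Nat.beq a b || !(Nat.beq (labMask.getD a 0) (labMask.getD b 0))) = true := by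
  decide +kernel

theorem lab_line : ((List.range 32).all fun a => (List.range 32).all fun b => (List.range 32).all fun c =>
    Nat.beq a 0 || Nat.beq b 0 || Nat.beq c 0 || Nat.beq a b || Nat.beq a c || Nat.beq b c ||
    (Nat.beq (cntUp 9 (labMask.getD a 0 &&& labMask.getD b 0 &&& labMask.getD c 0)) 8 ==
      Nat.beq c (a ^^^ b))) = true := by decide +kernel

theorem z_triple : ((List.range 10).all fun k =>
    let t := zTriple.getD k (0, 0, 0)
    Nat.blt t.1 32 && Nat.blt t.2.1 32 && Nat.blt t.2.2 32 && !(Nat.beq t.1 0) && !(Nat.beq t.2.1 0) &&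
      !(Nat.beq t.2.2 0) && !(Nat.beq (zBase.getD k 0) 0) && Nat.blt (zBase.getD k 0) 1024 &&
      Nat.beq (labMask.getD t.1 0 &&& labMask.getD t.2.1 0 &&& labMask.getD t.2.2 0)
        (1 ||| 1 <<< zBase.getD k 0)) = true := by decide +kernel

theorem z_comb : ((List.range 10).all fun k => Nat.beq (lin zBase (zComb.getD k 0)) (1 <<< k)) = true := by
  decide +kernel

theorem cmp_tables : ((List.range 16).all fun a => Nat.blt (cmpV.getD a 0) 2048 && Nat.blt (cmpR.getD a 0) 16 &&
    nvMask.testBit (cmpV.getD a 0) && (Nat.beq a 0 || !(inW (cmpV.getD a 0))) &&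
    (List.range 16).all fun b => Nat.beq (cmpR.getD (a ^^^ b) 0) (cmpR.getD a 0 ^^^ cmpR.getD b 0) &&
      Nat.beq (cmpV.getD (a ^^^ b) 0) (cmpV.getD a 0 ^^^ lin (actL (rk (cmpR.getD a 0))) (cmpV.getD b 0))) = true := by
  decide +kernel

theorem cmp_zero : Nat.beq (cmpV.getD 0 0) 0 && Nat.beq (cmpR.getD 0 0) 0 && Nat.beq (cmpL.getD 0 0) pId = true := by
  decide +kernel

theorem cmp_perm : ((List.range 64).all fun l => inMat (cmpL.getD l 0) && (bits24.all fun i =>
    !(octMask.testBit i) || octMask.testBit (pget (cmpL.getD l 0) i)) &&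
    (Nat.beq l 0 || bits24.any fun i => octMask.testBit i && !(Nat.beq (pget (cmpL.getD l 0) i) i)) &&
    (List.range 64).all fun m => Nat.blt ((cmpMul.getD l []).getD m 0) 64 &&
      prodCheck (cmpL.getD l 0) (cmpL.getD m 0) (cmpL.getD ((cmpMul.getD l []).getD m 0) 0)) = true := by decide +kernel

theorem cmp_conj : ((List.range 64).all fun l => (List.range 16).all fun a => (List.range 16).any fun b =>
    Nat.beq (lin (actL (cmpL.getD l 0)) (cmpV.getD a 0)) (cmpV.getD b 0) &&
      bits24.all fun i => Nat.beq (pget (cmpL.getD l 0) (pget (rk (cmpR.getD a 0)) i))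
        (pget (rk (cmpR.getD b 0)) (pget (cmpL.getD l 0) i))) = true := by decide +kernel

end Cfsg.Lib.JankoFourTen
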