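import Cfsg.Agent.Lib.JankoFourTen.Fix
import Cfsg.Agent.Lib.MathieuSylow.Checks

/-!
# Evaluation of the checks on the involutions of the Sylow 2-subgroup
-/

set_option autoImplicit false
set_option maxRecDepth 100000

namespace Cfsg.Lib.JankoFourTen

open Cfsg Cfsg.Lib.Concrete Cfsg.Lib.JankoFour.BitModel
open Cfsg.Lib.FusionSys.MathieuCert (certM24)

/-- An element with its index, commutation mask, product row and fixed mask. -/
abbrev Item := ℕ × ℕ × ℕ × ℕ

/-- The index of the product. -/
def prodI (x : Item) (e : ℕ) : ℕ := (x.2.2.1 >>> (8 * e)) &&& 255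

/-- The fixed mask. -/
def itFix (x : Item) : ℕ := x.2.2.2

/-- The items. -/
def items : List Item := (List.range 192).zip (adjL.zip (rowL.zip fixL))

/-- A check at every position of a list. -/
def scanL {α : Type} (g : α → List α → Bool) : List α → Bool
  | [] => true
  | a :: l => g a l && scanL g l

/-- The search through the elementary abelian subgroups. -/
def search : ℕ → List ℕ → List Item → ℕ → ℕ → Bool
  | 0, _, _, _, _ => false
  | f + 1, els, cand, fx, k =>
    (Nat.beq k 0 || !(Nat.beq (cntUp (2 ^ (10 - k) + 1) fx) (2 ^ (10 - k))) ||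
      (els.all tenIdx.contains && Nat.beq els.length 16)) &&
    scanL (fun x rest => !(els.all fun e => Nat.ble x.1 (prodI x e)) ||
      search f (els ++ els.map (prodI x)) (rest.filter fun r => x.2.1.testBit r.1)
        (fx &&& itFix x) (k + 1)) cand

theorem invL_len : invL.length = 192 ∧ adjL.length = 192 ∧ rowL.length = 192 ∧ fixL.length = 192 := by
  decide +kernel

theorem invL_nodup : ((List.range 192).all fun i => (List.range 192).all fun j =>
    Nat.beq i j || !(Nat.beq (invL.getD i 0) (invL.getD j 0))) = true := by decide +kernel

theorem invL_one : Nat.beq (invL.getD 0 0) pId = true := by decide +kernel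

theorem invL_mem : (invL.all fun p => (certM24.t.find p).isSome) = true := by decide +kernel

theorem invL_complete : (certM24.keys.all fun p => !(prodCheck p p pId) || invL.contains p) = true := by
  decide +kernel

theorem table_ok : ((invL.zip items).all fun a => (invL.zip items).all fun b =>
    bif a.2.2.1.testBit b.2.1 then Nat.blt (prodI a.2 b.2.1) 192 &&
      prodCheck a.1 b.1 (invL.getD (prodI a.2 b.2.1) 0) && prodCheck b.1 a.1 (invL.getD (prodI a.2 b.2.1) 0)
    else !(bits24.all fun i => Nat.beq (pget a.1 (pget b.1 i)) (pget b.1 (pget a.1 i)))) = true := by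
  decide +kernel

theorem fix_ok : ((invL.zip fixL).all fun a => Nat.beq (fixMask (actL a.1)) a.2) = true := by decide +kernel

theorem search_ok : search 8 [0] items.tail fullM 0 = true := by decide +kernel

theorem tenIdx_ok : (tenIdx.all fun i => Nat.blt i 192) && tenIdx.length == 16 := by decide +kernel

theorem tenFix_ok : Nat.beq (tenIdx.foldl (fun r i => r &&& fixL.getD i 0) fullM) tenFix = true := by decide +kernel

end Cfsg.Lib.JankoFourTen
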