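import Cfsg.Agent.Lib.JankoFourTen.SylowCheck
import Cfsg.Agent.Lib.MathieuSylow.Model

/-!
# The only candidate in the Sylow 2-subgroup of M24

An elementary abelian subgroup of order `2ᵏ`, `0 < k`, fixing exactly `2^(10-k)` coordinates.
-/

set_option autoImplicit false
set_option maxRecDepth 100000
set_option linter.style.haveILetI false

namespace Cfsg.Lib.JankoFourTen

open Cfsg Cfsg.Lib.Concrete Cfsg.Lib.JankoFour.BitModel
open Cfsg.Lib.FusionSys.MathieuCert (certM24 toPerm toPerm_eq Cert.node_spec Cert.key_of_mem pcode)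

/-- The packed form of a member. -/
def ikey (i : ℕ) : ℕ := invL.getD i 0

/-- The member of the list. -/
noncomputable def iel (i : ℕ) : Equiv.Perm GolayPt := toPerm (ikey i)

theorem ikey_mem {i : ℕ} (hi : i < 192) : ikey i ∈ invL := by
  rw [ikey, List.getD_eq_getElem _ _ (invL_len.1.symm ▸ hi)]
  exact List.getElem_mem _

theorem iel_spec {i : ℕ} (hi : i < 192) : Rep (iel i) (ikey i) ∧ iel i ∈ Cfsg.Lib.MathieuSylow.G0 := by
  obtain ⟨e, he⟩ := Option.isSome_iff_exists.1 (List.all_eq_true.1 invL_mem _ (ikey_mem hi))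
  obtain ⟨h1, -, h3, -⟩ := Cert.node_spec Cfsg.Lib.MathieuSylow.hok0
    Cfsg.Lib.FusionSys.MathieuCert.certM24_genOK Cfsg.Lib.FusionSys.MathieuCert.certM24_treeOK
    (Cfsg.Lib.FusionSys.MathieuCert.KT.find_mem he)
  exact ⟨h1, h3⟩

theorem iel_inj {i j : ℕ} (hi : i < 192) (hj : j < 192) (h : iel i = iel j) : i = j := by
  have hk : ikey i = ikey j := by
    have h1 := (iel_spec hi).1
    have h2 := (iel_spec hj).1
    rw [h] at h1
    refine ?_
    have e1 : Cfsg.Lib.FusionSys.MathieuCert.pcode (iel j) = ikey i := by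
      rw [← h]; exact ((Cert.node_spec Cfsg.Lib.MathieuSylow.hok0
        Cfsg.Lib.FusionSys.MathieuCert.certM24_genOK Cfsg.Lib.FusionSys.MathieuCert.certM24_treeOK
        (Cfsg.Lib.FusionSys.MathieuCert.KT.find_mem (Option.isSome_iff_exists.1
          (List.all_eq_true.1 invL_mem _ (ikey_mem hi))).choose_spec)).2.1)
    have e2 : Cfsg.Lib.FusionSys.MathieuCert.pcode (iel j) = ikey j :=
      (Cert.node_spec Cfsg.Lib.MathieuSylow.hok0
        Cfsg.Lib.FusionSys.MathieuCert.certM24_genOK Cfsg.Lib.FusionSys.MathieuCert.certM24_treeOK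
        (Cfsg.Lib.FusionSys.MathieuCert.KT.find_mem (Option.isSome_iff_exists.1
          (List.all_eq_true.1 invL_mem _ (ikey_mem hj))).choose_spec)).2.1
    exact e1.symm.trans e2
  have h' := List.all_eq_true.1 (List.all_eq_true.1 invL_nodup i (List.mem_range.2 hi)) j (List.mem_range.2 hj)
  rw [Bool.or_eq_true, Bool.not_eq_true'] at h'
  rcases h' with h' | h'
  · exact Nat.eq_of_beq_eq_true h'
  · rw [show invL.getD i 0 = invL.getD j 0 from hk, Nat.beq_refl] at h'
    exact Bool.noConfusion h'

theorem iel_zero : iel 0 = 1 := by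
  rw [iel, ikey, Nat.eq_of_beq_eq_true invL_one]
  exact toPerm_eq rep_one

/-- The item with a given index. -/
def item (i : ℕ) : Item := (i, adjL.getD i 0, rowL.getD i 0, fixL.getD i 0)

theorem items_getElem {i : ℕ} (hi : i < items.length) : items[i] = item i := by
  simp only [items, List.length_zip, List.length_range, invL_len.2.1, invL_len.2.2.1, invL_len.2.2.2] at hi
  simp only [items, List.getElem_zip, List.getElem_range, item]
  rw [List.getD_eq_getElem _ _ (by rw [invL_len.2.1]; omega), List.getD_eq_getElem _ _ (by rw [invL_len.2.2.1]; omega),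
    List.getD_eq_getElem _ _ (by rw [invL_len.2.2.2]; omega)]

theorem items_length : items.length = 192 := by
  simp [items, invL_len.2.1, invL_len.2.2.1, invL_len.2.2.2]

theorem mem_items {x : Item} (h : x ∈ items) : x.1 < 192 ∧ x = item x.1 := by
  obtain ⟨i, hi, rfl⟩ := List.getElem_of_mem h
  rw [items_getElem hi]
  exact ⟨items_length ▸ hi, rfl⟩

theorem item_mem {i : ℕ} (hi : i < 192) : item i ∈ items := by
  have hi' : i < items.length := items_length.symm ▸ hi
  rw [← items_getElem hi']
  exact List.getElem_mem hi'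

theorem items_sorted : items.tail.Pairwise (fun x y => x.1 < y.1) := by
  refine List.Pairwise.sublist (List.tail_sublist _) (List.pairwise_iff_getElem.2 fun i j hi hj hij => ?_)
  rw [items_getElem hi, items_getElem hj]
  exact hij

theorem items_head : items = item 0 :: items.tail := by
  have h : 0 < items.length := by rw [items_length]; norm_num
  conv_lhs => rw [← List.cons_head_tail (List.ne_nil_of_length_pos h)]
  rw [List.head_eq_getElem, items_getElem h]

theorem zip_mem {i : ℕ} (hi : i < 192) : (ikey i, item i) ∈ invL.zip items := by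
  have h1 : i < invL.length := invL_len.1.symm ▸ hi
  have h2 : i < items.length := items_length.symm ▸ hi
  have h3 : i < (invL.zip items).length := by simp [List.length_zip]; omega
  have e : (invL.zip items)[i] = (ikey i, item i) := by
    rw [List.getElem_zip, items_getElem, ikey, List.getD_eq_getElem _ _ h1]
  rw [← e]
  exact List.getElem_mem h3

theorem table_spec {i j : ℕ} (hi : i < 192) (hj : j < 192) (h : Commute (iel i) (iel j)) :
    (item i).2.1.testBit j = true ∧ prodI (item i) j < 192 ∧ iel (prodI (item i) j) = iel i * iel j := by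
  have ht := List.all_eq_true.1 (List.all_eq_true.1 table_ok _ (zip_mem hi)) _ (zip_mem hj)
  have ri := (iel_spec hi).1
  have rj := (iel_spec hj).1
  cases hb : (item i).2.1.testBit j with
  | false =>
    exfalso
    rw [show ((ikey i, item i).2.2.1.testBit (ikey j, item j).2.1) = false from hb, cond_false,
      Bool.not_eq_true'] at ht
    rw [← Bool.not_eq_true, List.all_eq_true] at ht
    refine ht fun k hk => ?_
    rw [Nat.beq_eq]
    have hk' := mem_bits24.1 hk
    have e1 := (congrArg (fun g : Equiv.Perm GolayPt => (gidx (g (gpt ⟨k, hk'⟩))).val) h.eq)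
    simp only [Equiv.Perm.mul_apply] at e1
    rw [ri, rj, rj, ri, gidx_gpt] at e1
    exact e1
  | true =>
    rw [show ((ikey i, item i).2.2.1.testBit (ikey j, item j).2.1) = true from hb, cond_true] at ht
    simp only [Bool.and_eq_true, Nat.blt_eq] at ht
    refine ⟨rfl, ht.1.1, ?_⟩
    exact ((iel_spec ht.1.1).1.ext (ri.mul rj ht.1.2))

theorem fix_spec {i v : ℕ} (hi : i < 192) :
    (itFix (item i)).testBit v = true ↔ v < 2048 ∧ lin (actL (ikey i)) v = v := by
  have h1 : i < (invL.zip fixL).length := by simp [List.length_zip, invL_len.1, invL_len.2.2.2, hi]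
  have h := List.all_eq_true.1 fix_ok _ (List.getElem_mem h1)
  rw [Nat.beq_eq, List.getElem_zip] at h
  simp only at h
  rw [itFix, show (item i).2.2.2 = fixL.getD i 0 from rfl,
    List.getD_eq_getElem _ _ (invL_len.2.2.2.symm ▸ hi), ← h, fixMask_spec (actL_lt _), ikey,
    List.getD_eq_getElem _ _ (invL_len.1.symm ▸ hi)]

theorem exists_index {g : Equiv.Perm GolayPt} (hg : g ∈ Cfsg.Lib.MathieuSylow.G0) (h2 : g * g = 1) :
    ∃ i < 192, iel i = g := by
  obtain ⟨e, he, hr⟩ := Cert.key_of_mem Cfsg.Lib.MathieuSylow.hok0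
    Cfsg.Lib.FusionSys.MathieuCert.certM24_genOK Cfsg.Lib.FusionSys.MathieuCert.certM24_treeOK
    Cfsg.Lib.FusionSys.MathieuCert.certM24_closedOK hg
  have hc := List.all_eq_true.1 invL_complete _ (List.mem_map.2 ⟨_, he, rfl⟩)
  simp only at hc
  have hp : prodCheck (pcode g) (pcode g) pId = true := List.all_eq_true.2 fun k hk => by
    rw [Nat.beq_eq]
    have hk' := mem_bits24.1 hk
    have e1 := congrArg (fun f : Equiv.Perm GolayPt => (gidx (f (gpt ⟨k, hk'⟩))).val) h2
    simp only [Equiv.Perm.mul_apply, Equiv.Perm.one_apply] at e1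
    rw [hr, hr, gidx_gpt] at e1
    exact ((rep_one.apply ⟨k, hk'⟩).symm.trans (by simp [gidx_gpt])).trans e1.symm
  rw [hp, Bool.not_true, Bool.false_or, List.contains_iff_mem] at hc
  obtain ⟨i, hi, hik⟩ := List.getElem_of_mem hc
  refine ⟨i, invL_len.1 ▸ hi, ?_⟩
  rw [iel, ikey, List.getD_eq_getElem _ _ hi, hik]
  exact toPerm_eq hr

theorem scanL_spec {α : Type} {g : α → List α → Bool} : ∀ (l l1 l2 : List α) (a : α), scanL g l = true →
    l = l1 ++ a :: l2 → g a l2 = true := by
  intro l l1
  induction l1 generalizing l with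
  | nil =>
    intro l2 a h e
    subst e
    exact (Bool.and_eq_true _ _ ▸ h : g a l2 = true ∧ _).1
  | cons b l1 ih =>
    intro l2 a h e
    subst e
    exact ih _ l2 a (Bool.and_eq_true _ _ ▸ h : _ ∧ scanL g (l1 ++ a :: l2) = true).2 rfl

theorem fixmul_ok : (items.all fun a => items.all fun b => !(a.2.1.testBit b.1) ||
    Nat.beq (itFix a &&& itFix b &&& fixL.getD (prodI a b.1) 0) (itFix a &&& itFix b)) = true := by
  decide +kernel

theorem fix_mul {i j v : ℕ} (hi : i < 192) (hj : j < 192) (h : (item i).2.1.testBit j = true)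
    (hp : prodI (item i) j < 192) (hv : v < 2048) (h1 : lin (actL (ikey i)) v = v)
    (h2 : lin (actL (ikey j)) v = v) : lin (actL (ikey (prodI (item i) j))) v = v := by
  have hm := List.all_eq_true.1 (List.all_eq_true.1 fixmul_ok _ (item_mem hi)) _ (item_mem hj)
  rw [show (item j).1 = j from rfl, h, Bool.not_true, Bool.false_or, Nat.beq_eq] at hm
  have hb : (itFix (item i) &&& itFix (item j)).testBit v = true := by
    rw [Nat.testBit_and, (fix_spec hi).2 ⟨hv, h1⟩, (fix_spec hj).2 ⟨hv, h2⟩, Bool.and_self]
  rw [← hm, Nat.testBit_and, Bool.and_eq_true] at hb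
  exact ((fix_spec hp).1 (show (itFix (item (prodI (item i) j))).testBit v = true from hb.2)).2

section
variable (R : Subgroup (Equiv.Perm GolayPt)) (hR : R ≤ Cfsg.Lib.MathieuSylow.G0) (h2 : ∀ g ∈ R, g * g = 1)

/-- The coordinates fixed by a subgroup. -/
def FixesAll (v : ℕ) : Prop := ∀ g ∈ R, ∀ p, Rep g p → lin (actL p) v = v

include hR h2 in
theorem search_spec (f : ℕ) : ∀ (els : List ℕ) (cand : List Item) (fx k : ℕ),
    search f els cand fx k = true → els.Nodup → els.length = 2 ^ k →
    (∀ e ∈ els, e < 192 ∧ iel e ∈ R) → (0 ∈ els) →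
    (∀ a ∈ els, ∀ b ∈ els, ∃ c ∈ els, iel c = iel a * iel b) →
    (∀ x ∈ cand, x ∈ items) → cand.Pairwise (fun x y => x.1 < y.1) →
    (∀ i < 192, iel i ∈ R → i ∉ els → item i ∈ cand) →
    (∀ v, fx.testBit v = true ↔ v < 2048 ∧ ∀ e ∈ els, lin (actL (ikey e)) v = v) →
    Nat.card ↥R = 1 ∨ Nat.card ↥R * {v : ℕ | v < 2048 ∧ FixesAll R v}.ncard ≠ 1024 ∨
      (∀ g ∈ R, ∃ i ∈ tenIdx, iel i = g) ∧ Nat.card ↥R = 16 := by
  induction f with
  | zero => intro els cand fx k h; exact Bool.noConfusion h
  | succ f ih =>
    intro els cand fx k h hnd hlen hmem h0 hcl hci hpw hcov hfx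
    rw [search, Bool.and_eq_true] at h
    have hcomm : ∀ {a b}, a ∈ R → b ∈ R → Commute a b := fun {a b} ha hb => by
      show a * b = b * a
      rw [← inv_eq_of_mul_eq_one_right (h2 _ (R.mul_mem ha hb)), mul_inv_rev,
        inv_eq_of_mul_eq_one_right (h2 a ha), inv_eq_of_mul_eq_one_right (h2 b hb)]
    by_cases hall : ∀ i < 192, iel i ∈ R → i ∈ els
    · -- the list is the whole subgroup
      have hex : ∀ g ∈ R, ∃ e ∈ els, iel e = g := fun g hg => by
        obtain ⟨i, hi, rfl⟩ := exists_index (hR hg) (h2 g hg)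
        exact ⟨i, hall i hi hg, rfl⟩
      have hcard : Nat.card ↥R = 2 ^ k := by
        rw [← hlen, ← List.toFinset_card_of_nodup hnd, ← Fintype.card_coe, ← Nat.card_eq_fintype_card]
        refine (Nat.card_congr (Equiv.ofBijective (fun e : ↥els.toFinset =>
          (⟨iel e, (hmem e (List.mem_toFinset.1 e.2)).2⟩ : ↥R)) ⟨fun a b hab => ?_, fun g => ?_⟩)).symm
        · exact Subtype.ext (iel_inj (hmem a (List.mem_toFinset.1 a.2)).1 (hmem b (List.mem_toFinset.1 b.2)).1
            (congrArg Subtype.val hab))
        · obtain ⟨e, he, hee⟩ := hex g g.2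
          exact ⟨⟨e, List.mem_toFinset.2 he⟩, Subtype.ext hee⟩
      rw [Bool.or_eq_true, Bool.or_eq_true] at h
      rcases h.1 with (hk | hk) | hk
      · left
        rw [hcard, Nat.eq_of_beq_eq_true hk, pow_zero]
      · right; left
        intro hprod
        have hset : {v : ℕ | v < 2048 ∧ FixesAll R v} =
            ↑((Finset.range 2048).filter fun v => fx.testBit v) := by
          ext v
          simp only [Set.mem_ofPred_eq, Finset.coe_filter, Finset.mem_range]
          rw [hfx]
          refine and_congr_right fun hv => ⟨fun hF => ⟨hv, fun e he => hF _ (hmem e he).2 _ (iel_spec (hmem e he).1).1⟩,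
            fun hF g hg p hp => ?_⟩
          obtain ⟨e, he, rfl⟩ := hex g hg
          have hpe : p = ikey e ∨ actL p = actL (ikey e) := by
            right
            refine List.map_congr_left fun j hj => ?_
            have hj' := List.mem_range.1 hj
            rw [← (hp.apply ⟨j, by omega⟩), ← hp.apply ⟨11, by norm_num⟩,
              ← ((iel_spec (hmem e he).1).1.apply ⟨j, by omega⟩),
              ← ((iel_spec (hmem e he).1).1.apply ⟨11, by norm_num⟩)]
          rcases hpe with rfl | e' <;> [exact hF.2 e he; (rw [e']; exact hF.2 e he)]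
        rw [hset, Set.ncard_coe_finset, ← bitSum_eq, hcard] at hprod
        have hfxlt : fx < 2 ^ 2048 := Nat.lt_pow_two_of_testBit _ fun i hi => by
          rw [Bool.eq_false_iff]
          intro hb
          have := ((hfx i).1 hb).1
          omega
        have hk10 : k ≤ 10 := by
          by_contra hk11
          have := Nat.pow_le_pow_right (show 0 < 2 by norm_num) (show 11 ≤ k by omega)
          rcases Nat.eq_zero_or_pos (bitSum 2048 fx) with hz | hz
          · rw [hz, mul_zero] at hprod; omega
          · have := Nat.le_mul_of_pos_right (2 ^ k) hz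
            omega
        have hb : bitSum 2048 fx = 2 ^ (10 - k) := Nat.eq_of_mul_eq_mul_left (pow_pos (show 0 < 2 by norm_num) k) (by
          rw [hprod, ← pow_add, Nat.add_sub_cancel' hk10]; norm_num)
        rw [Bool.not_eq_true', cntUp_eq _ 2048 _ hfxlt, hb, Nat.min_eq_right (Nat.le_succ _), Nat.beq_refl] at hk
        exact Bool.noConfusion hk
      · right; right
        rw [Bool.and_eq_true] at hk
        refine ⟨fun g hg => ?_, ?_⟩
        · obtain ⟨e, he, hee⟩ := hex g hg
          exact ⟨e, List.contains_iff_mem.1 (List.all_eq_true.1 hk.1 e he), hee⟩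
        · rw [hcard, ← hlen]
          exact Nat.eq_of_beq_eq_true hk.2
    · push Not at hall
      obtain ⟨i, hi, hiR, hiE⟩ := hall
      classical
      have hcase : ∃ j, j < 192 ∧ iel j ∈ R ∧ j ∉ els ∧ ∀ m, m < 192 → iel m ∈ R → m ∉ els → j ≤ m := by
        have hP : ∃ j, j < 192 ∧ iel j ∈ R ∧ j ∉ els := ⟨i, hi, hiR, hiE⟩
        exact ⟨Nat.find hP, (Nat.find_spec hP).1, (Nat.find_spec hP).2.1, (Nat.find_spec hP).2.2,
          fun m h1 h2 h3 => Nat.find_min' hP ⟨h1, h2, h3⟩⟩
      obtain ⟨j, hj, hjR, hjE, hmin⟩ := hcase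
      obtain ⟨l1, l2, hl⟩ := List.append_of_mem (hcov j hj hjR hjE)
      have hg := scanL_spec _ l1 l2 _ h.2 hl
      have hprod : ∀ e ∈ els, prodI (item j) e < 192 ∧ iel (prodI (item j) e) = iel j * iel e ∧
          prodI (item j) e ∉ els ∧ iel (prodI (item j) e) ∈ R := by
        intro e he
        obtain ⟨-, h3, h4⟩ := table_spec hj (hmem e he).1 (hcomm hjR (hmem e he).2)
        refine ⟨h3, h4, fun hin => ?_, h4 ▸ R.mul_mem hjR (hmem e he).2⟩
        obtain ⟨c, hc, hce⟩ := hcl _ hin _ he
        refine hjE ?_
        have e3 : iel c = iel j := by rw [hce, h4, mul_assoc, h2 _ (hmem e he).2, mul_one]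
        exact iel_inj (hmem c hc).1 hj e3 ▸ hc
      rw [Bool.or_eq_true] at hg
      have hg' := hg.resolve_left fun hn => by
        rw [Bool.not_eq_true', ← Bool.not_eq_true, List.all_eq_true] at hn
        refine hn fun e he => ?_
        rw [Nat.ble_eq]
        exact hmin _ (hprod e he).1 (hprod e he).2.2.2 (hprod e he).2.2.1
      refine ih _ _ _ _ hg' ?_ ?_ ?_ (List.mem_append_left _ h0) ?_ ?_ ?_ ?_ ?_
      · refine List.nodup_append'.2 ⟨hnd, ?_, ?_⟩
        · refine List.Nodup.map_on (fun a ha b hb hab => ?_) hnd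
          have := congrArg iel hab
          rw [(hprod a ha).2.1, (hprod b hb).2.1] at this
          exact iel_inj (hmem a ha).1 (hmem b hb).1 (mul_left_cancel this)
        · intro x hx hx'
          obtain ⟨e, he, rfl⟩ := List.mem_map.1 hx'
          exact (hprod e he).2.2.1 hx
      · rw [List.length_append, List.length_map, hlen, pow_succ, mul_two]
      · intro e he
        rcases List.mem_append.1 he with he | he
        · exact hmem e he
        · obtain ⟨e', he', rfl⟩ := List.mem_map.1 he
          exact ⟨(hprod e' he').1, (hprod e' he').2.2.2⟩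
      · intro a ha b hb
        have key : ∀ x ∈ els ++ els.map (prodI (item j)), ∃ e ∈ els, iel x = iel e ∨ iel x = iel j * iel e := by
          intro x hx
          rcases List.mem_append.1 hx with hx | hx
          · exact ⟨x, hx, Or.inl rfl⟩
          · obtain ⟨e, he, rfl⟩ := List.mem_map.1 hx
            exact ⟨e, he, Or.inr (hprod e he).2.1⟩
        obtain ⟨a', ha', ea⟩ := key a ha
        obtain ⟨b', hb', eb⟩ := key b hb
        obtain ⟨c, hc, hce⟩ := hcl a' ha' b' hb'
        have hja : Commute (iel j) (iel a') := hcomm hjR (hmem a' ha').2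
        have in1 : ∃ d ∈ els ++ els.map (prodI (item j)), iel d = iel a' * iel b' := ⟨c, List.mem_append_left _ hc, hce⟩
        have in2 : ∃ d ∈ els ++ els.map (prodI (item j)), iel d = iel j * (iel a' * iel b') :=
          ⟨_, List.mem_append_right _ (List.mem_map_of_mem hc), by rw [(hprod c hc).2.1, hce]⟩
        rcases ea with ea | ea <;> rcases eb with eb | eb <;> rw [ea, eb]
        · exact in1
        · rw [← mul_assoc, ← hja.eq, mul_assoc]; exact in2
        · rw [mul_assoc]; exact in2
        · rw [show iel j * iel a' * (iel j * iel b') = iel j * iel j * (iel a' * iel b') by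
            rw [mul_assoc, ← mul_assoc (iel a'), ← hja.eq, mul_assoc (iel j) (iel a'), ← mul_assoc],
            h2 _ hjR, one_mul]
          exact in1
      · intro x hx
        exact hci x (hl ▸ List.mem_append_right _ (List.mem_cons_of_mem _ (List.mem_filter.1 hx).1))
      · refine List.Pairwise.filter _ ?_
        rw [hl] at hpw
        exact (List.pairwise_cons.1 (List.pairwise_append.1 hpw).2.1).2
      · intro m hm hmR hmE
        have hmE' : m ∉ els := fun he => hmE (List.mem_append_left _ he)
        have hmj : m ≠ j := by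
          rintro rfl
          obtain ⟨-, h4⟩ : prodI (item m) 0 < 192 ∧ iel (prodI (item m) 0) = iel m * iel 0 :=
            ⟨(hprod 0 h0).1, (hprod 0 h0).2.1⟩
          rw [iel_zero, mul_one] at h4
          refine hmE ?_
          have hin : prodI (item m) 0 ∈ els ++ els.map (prodI (item m)) :=
            List.mem_append_right _ (List.mem_map_of_mem h0)
          have e5 := iel_inj (hprod 0 h0).1 hm h4
          generalize prodI (item m) 0 = z at hin e5
          rw [e5] at hin
          exact hin
        refine List.mem_filter.2 ⟨?_, (table_spec hj hm (hcomm hjR hmR)).1⟩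
        have := hcov m hm hmR hmE'
        rw [hl, List.mem_append, List.mem_cons] at this
        rcases this with h' | h' | h'
        · exfalso
          rw [hl] at hpw
          have hlt : m < j := (List.pairwise_append.1 hpw).2.2 _ h' _ (List.mem_cons_self ..)
          have := hmin m hm hmR hmE'
          omega
        · exact absurd (congrArg Prod.fst h') hmj
        · exact h'
      · intro v
        rw [Nat.testBit_and, Bool.and_eq_true, hfx, fix_spec hj]
        constructor
        · rintro ⟨⟨hv, he⟩, -, hjf⟩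
          refine ⟨hv, fun x hx => ?_⟩
          rcases List.mem_append.1 hx with hx | hx
          · exact he x hx
          · obtain ⟨e, hee, rfl⟩ := List.mem_map.1 hx
            exact fix_mul hj (hmem e hee).1 (table_spec hj (hmem e hee).1 (hcomm hjR (hmem e hee).2)).1
              (hprod e hee).1 hv hjf (he e hee)
        · rintro ⟨hv, hall⟩
          refine ⟨⟨hv, fun e he => hall e (List.mem_append_left _ he)⟩, hv, ?_⟩
          have h4 := (hprod 0 h0).2.1
          rw [iel_zero, mul_one] at h4
          have := hall _ (List.mem_append_right _ (List.mem_map_of_mem h0))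
          rwa [iel_inj (hprod 0 h0).1 hj h4] at this

include hR h2 in
/-- An elementary abelian subgroup with fixed coordinates making `1024` is trivial or the candidate. -/
theorem eq_candidate (hne : R ≠ ⊥)
    (hc : Nat.card ↥R * {v : ℕ | v < 2048 ∧ FixesAll R v}.ncard = 1024) :
    (∀ g, g ∈ R ↔ ∃ i ∈ tenIdx, iel i = g) ∧ Nat.card ↥R = 16 := by
  classical
  have hfull : ∀ v, fullM.testBit v = decide (v < 2048) := fun v => Nat.testBit_two_pow_sub_one 2048 v
  have h0 : iel 0 ∈ R := by rw [iel_zero]; exact R.one_mem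
  have hid : ∀ v < 2048, lin (actL (ikey 0)) v = v := fun v hv => by
    have h : Nat.beq (fixL.getD 0 0) fullM = true := by decide +kernel
    have hb : (itFix (item 0)).testBit v = true := by
      show (fixL.getD 0 0).testBit v = true
      rw [Nat.eq_of_beq_eq_true h, hfull, decide_eq_true hv]
    exact ((fix_spec (show 0 < 192 by norm_num)).1 hb).2
  rcases search_spec R hR h2 8 [0] items.tail fullM 0 search_ok (List.nodup_singleton 0) (by simp)
      (fun e he => by
        rw [List.mem_singleton] at he
        subst he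
        exact ⟨by norm_num, h0⟩)
      (List.mem_singleton_self 0)
      (fun a ha b hb => ⟨0, List.mem_singleton_self 0, by
        rw [List.mem_singleton] at ha hb
        rw [ha, hb, iel_zero, one_mul]⟩)
      (fun x hx => List.mem_of_mem_tail hx) items_sorted
      (fun i hi _ hne' => by
        have hi0 : i ≠ 0 := fun e => hne' (List.mem_singleton.2 e)
        have hm := item_mem hi
        rw [show items = item 0 :: items.tail from items_head, List.mem_cons] at hm
        exact hm.resolve_left fun e => hi0 (congrArg Prod.fst e))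
      (fun v => by
        rw [hfull, decide_eq_true_eq]
        exact ⟨fun hv => ⟨hv, fun e he => by rw [List.mem_singleton] at he; subst he; exact hid v hv⟩, And.left⟩)
    with h | h | ⟨h, h16⟩
  · exact absurd (Subgroup.eq_bot_of_card_eq _ h) hne
  · exact absurd hc h
  · refine ⟨fun g => ⟨h g, ?_⟩, h16⟩
    rintro ⟨i, hi, rfl⟩
    have hl := tenIdx_ok
    rw [Bool.and_eq_true, List.all_eq_true] at hl
    have hinj : ((↑) : ↥R → Equiv.Perm GolayPt) '' Set.univ ⊆ iel '' {i | i ∈ tenIdx} := by
      rintro _ ⟨g, -, rfl⟩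
      obtain ⟨j, hj, e⟩ := h g g.2
      exact ⟨j, hj, e⟩
    rw [Set.image_univ, Subtype.range_coe] at hinj
    have heq : (R : Set (Equiv.Perm GolayPt)) = iel '' {i | i ∈ tenIdx} := by
      refine Set.eq_of_subset_of_ncard_le hinj ?_ ((List.finite_toSet tenIdx).image _)
      refine le_trans (Set.ncard_image_le (List.finite_toSet tenIdx)) ?_
      rw [show {i | i ∈ tenIdx} = ↑tenIdx.toFinset from by ext; simp, Set.ncard_coe_finset,
        show (R : Set (Equiv.Perm GolayPt)).ncard = Nat.card ↥R from (Nat.card_coe_set_eq _).symm, h16]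
      exact le_trans (List.toFinset_card_le _) (le_of_eq (Nat.eq_of_beq_eq_true hl.2))
    exact (heq.symm ▸ Set.mem_image_of_mem iel (show i ∈ {i | i ∈ tenIdx} from hi) :
      iel i ∈ (R : Set (Equiv.Perm GolayPt)))

end

end Cfsg.Lib.JankoFourTen
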