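import Cfsg.Agent.Lib.JankoFourTen.SylowClass
import Cfsg.Agent.Lib.JankoFourTen.TenData

/-!
# Evaluation of the checks on the group of order `2¹⁰`
-/

set_option autoImplicit false
set_option maxRecDepth 100000

namespace Cfsg.Lib.JankoFourTen

open Cfsg Cfsg.Lib.Concrete Cfsg.Lib.JankoFour.BitModel
open Cfsg.Lib.FusionSys.MathieuCert (toPerm toPerm_eq rep_toPerm)

/-- A packed permutation preserving the code. -/
def inMat (p : ℕ) : Bool :=
  (bits24.all fun i => Nat.blt (pget p i) 24 && bits24.all fun j => Nat.beq i j || !(Nat.beq (pget p i) (pget p j))) &&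
    basisMasks.all (fun b => isCode (pimg p b) && decide (pimg p b < 16777216))

theorem inMat_spec {p : ℕ} (h : inMat p = true) : Rep (toPerm p) p ∧ toPerm p ∈ M24 := by
  rw [inMat, Bool.and_eq_true] at h
  have hp : ∀ i < 24, pget p i < 24 ∧ ∀ j < 24, pget p i = pget p j → i = j := fun i hi => by
    have h1 := List.all_eq_true.1 h.1 i (mem_bits24.2 hi)
    rw [Bool.and_eq_true, Nat.blt_eq] at h1
    refine ⟨h1.1, fun j hj e => ?_⟩
    have h2 := List.all_eq_true.1 h1.2 j (mem_bits24.2 hj)
    rw [e, Nat.beq_refl, Bool.not_true, Bool.or_false, Nat.beq_eq] at h2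
    exact h2
  let f : GolayPt → GolayPt := fun x => gpt ⟨pget p (gidx x).val, (hp _ (gidx x).isLt).1⟩
  have hf : Function.Bijective f := Finite.injective_iff_bijective.1 fun x y e => gidx_injective (Fin.ext
    ((hp _ (gidx x).isLt).2 _ (gidx y).isLt (congrArg Fin.val (gpt_injective e))))
  have hr : Rep (Equiv.ofBijective f hf) p := fun x => by
    show (gidx (gpt _)).val = _
    rw [gidx_gpt]
  exact ⟨rep_toPerm hr, rep_mem_M24 (rep_toPerm hr) h.2⟩

/-- The packed member. -/
def rk (i : ℕ) : ℕ := rkL.getD i 0

/-- The coordinates of a member. -/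
def wc (i : ℕ) : ℕ := wcL.getD i 0

/-- The mask of the points fixed by all the members. -/
def octMask : ℕ := 45159

/-- Membership in the coordinates of the part. -/
def inW (v : ℕ) : Bool := tenFix.testBit v

theorem tables_len : rkL.length = 16 ∧ wcL.length = 64 ∧ cobL.length = 4 := by decide +kernel

theorem rk_mat : ((List.range 16).all fun i => inMat (rk i) &&
    bits24.all fun a => !(octMask.testBit a) || Nat.beq (pget (rk i) a) a) = true := by decide +kernel

theorem rk_one : Nat.beq (rk 0) pId = true := by decide +kernel

theorem rk_mul : ((List.range 16).all fun i => (List.range 16).all fun j =>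
    prodCheck (rk i) (rk j) (rk (i ^^^ j))) = true := by decide +kernel

theorem rk_inj : ((List.range 16).all fun i => (List.range 16).all fun j =>
    Nat.beq i j || !(Nat.beq (rk i) (rk j))) = true := by decide +kernel

theorem rk_ten : (tenIdx.all fun k => (List.range 16).any fun i => Nat.beq (ikey k) (rk i)) = true := by
  decide +kernel

theorem wc_spec : ((List.range 64).all fun a => inW (wc a) && Nat.blt (wc a) 2048 &&
    (List.range 64).all fun b => Nat.beq (wc (a ^^^ b)) (wc a ^^^ wc b) &&
      (Nat.beq a b || !(Nat.beq (wc a) (wc b)))) = true := by decide +kernel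

theorem inW_wc : ((List.range 2048).all fun v => !(inW v) || wcL.contains v) = true := by decide +kernel

theorem wc_fixed : ((List.range 16).all fun i => (List.range 64).all fun a =>
    Nat.beq (lin (actL (rk i)) (wc a)) (wc a)) = true := by decide +kernel

theorem fix_all : Nat.beq ((List.range 16).foldl (fun r i => r &&& fixMask (actL (rk i))) fullM) tenFix = true := by
  decide +kernel

theorem octMask_mem : octList.contains octMask = true := by decide +kernel

/-- The pair with given points determines them. -/
theorem pair_unique : (bits24.all fun a => bits24.all fun b => !(octMask.testBit a && octMask.testBit b) ||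
    Nat.beq a b || bits24.all fun p => bits24.all fun q =>
      !(Nat.beq (pairC p q) (pairC a b)) || (Nat.beq p a && Nat.beq q b) || (Nat.beq p b && Nat.beq q a)) = true := by
  decide +kernel

theorem oct_pairs : (bits24.all fun a => bits24.all fun b => !(octMask.testBit a && octMask.testBit b) ||
    inW (pairC a b)) = true := by decide +kernel

theorem cob_fixed : ((List.range 4).all fun b => (List.range 2048).all fun v =>
    !(Nat.beq (lin (actL (rk (1 <<< b))) v) v) || inW v || inW (v ^^^ cobL.getD b 0)) = true := by decide +kernel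

/-- The choice of lifts. -/
def lift (e b : ℕ) : ℕ := cst (e.testBit b) (cobL.getD b 0)

theorem lift_class : ((List.range 16).all fun e =>
    ((List.range 4).any fun i => (List.range 4).any fun j =>
      !(Nat.beq (lift e i ^^^ lin (actL (rk (1 <<< i))) (lift e j))
        (lift e j ^^^ lin (actL (rk (1 <<< j))) (lift e i)))) ||
      trL.any fun u => Nat.blt u 2048 && (List.range 4).all fun b =>
        inW (u ^^^ lin (actL (rk (1 <<< b))) u ^^^ lift e b)) = true := by decide +kernel

/-- The basic image of the step is correct. -/
def stepOK (g : ℕ × ℕ) (a b : ℕ) : Bool :=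
  (bits24.all fun m => Nat.beq (pget g.2 (pget (rk (a / 64)) m)) (pget (rk (b / 64)) (pget g.2 m))) &&
    Nat.beq (lin (actL g.2) (wc (a % 64)) ^^^ lin (actL (rk (b / 64))) g.1 ^^^ g.1) (wc (b % 64))

/-- A tree grown from a mask. -/
def treeOK : List (ℕ × ℕ × ℕ) → ℕ → ℕ → Bool
  | [], seen, fin => Nat.beq seen fin
  | (b, a, k) :: l, seen, fin =>
    seen.testBit a && Nat.blt a 1024 && Nat.blt b 1024 && Nat.blt k genL.length &&
      stepOK (genL.getD k (0, 0)) a b && treeOK l (seen ||| 1 <<< b) fin

theorem gen_ok : (genL.all fun g => inMat g.2 && Nat.blt g.1 2048) = true := by decide +kernel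

theorem gen_img : ((List.range genL.length).all fun k => (List.range 10).all fun b =>
    Nat.blt ((genImgL.getD k []).getD b 0) 1024 &&
      stepOK (genL.getD k (0, 0)) (1 <<< b) ((genImgL.getD k []).getD b 0)) = true := by decide +kernel

theorem tree_small : treeOK edgeSmall (1 <<< repL.getD 0 0) (orbL.getD 0 0) = true := by decide +kernel

theorem tree_large : treeOK edgeLarge (1 <<< repL.getD 1 0) (orbL.getD 1 0) = true := by decide +kernel

theorem tree_third : treeOK edgeThird (1 <<< repL.getD 2 0) (orbL.getD 2 0) = true := by decide +kernel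

theorem tree_fourth : treeOK edgeFourth (1 <<< repL.getD 3 0) (orbL.getD 3 0) = true := by decide +kernel

theorem orb_counts : (Nat.beq (bitSum 1024 (orbL.getD 0 0)) 28 && Nat.beq (bitSum 1024 (orbL.getD 1 0)) 35 &&
    Nat.beq (bitSum 1024 (orbL.getD 2 0)) 120 && Nat.beq (bitSum 1024 (orbL.getD 3 0)) 840) = true := by
  decide +kernel

theorem orb_cover : ((List.range 1024).all fun x => Nat.beq x 0 ||
    (List.range 4).any fun c => (orbL.getD c 0).testBit x) = true := by decide +kernel

theorem orb_disjoint : ((List.range 4).all fun c => !((orbL.getD c 0).testBit 0) &&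
    Nat.blt (orbL.getD c 0) (2 ^ 1024) && (List.range 4).all fun d =>
      Nat.beq c d || Nat.beq (orbL.getD c 0 &&& orbL.getD d 0) 0) = true := by decide +kernel

/-- Membership in the second class. -/
def inPairs (v : ℕ) : Bool := bits24.any fun a => bits24.any fun b => !(Nat.beq a b) && Nat.beq (pairC a b) v

theorem orb_pairs : ((List.range 64).all fun x => inPairs (wc x) == (orbL.getD 0 0).testBit x) &&
    ((List.range 1024).all fun x => !((orbL.getD 0 0 ||| orbL.getD 1 0).testBit x) || Nat.blt x 64) = true := by
  decide +kernel

theorem small_gen : ((List.range 64).all fun x => (List.range 64).any fun a =>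
    (Nat.beq x 0 || (orbL.getD 0 0).testBit a) && ((orbL.getD 0 0).testBit x || Nat.beq x 0 ||
      (orbL.getD 0 0).testBit (x ^^^ a))) = true := by decide +kernel

theorem nv_spec : ((List.range 2048).all fun u => nvMask.testBit u ==
    (List.range 4).all fun b => inW (u ^^^ lin (actL (rk (1 <<< b))) u)) = true := by decide +kernel

theorem nv_count : Nat.beq (bitSum 2048 nvMask) 1024 = true := by decide +kernel

end Cfsg.Lib.JankoFourTen
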