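import Cfsg.Agent.Lib.JankoFourTen.TenBase
import Cfsg.Agent.Lib.JankoFour.Mathieu

/-!
# The self-centralizing groups of order `2¹⁰` form one class
-/

set_option autoImplicit false
set_option maxRecDepth 100000
set_option linter.style.haveILetI false
set_option linter.unusedSectionVars false

namespace Cfsg.Lib.JankoFourTen

open Cfsg Cfsg.Lib.Concrete Cfsg.Lib.JankoFour Cfsg.Lib.JankoFour.BitModel
open Cfsg.Lib.FusionSys.MathieuCert (toPerm toPerm_eq)

attribute [local irreducible] toPerm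

variable {G : Type*} [Group G] [Finite G] {A : Type} [Group A] {I : Subgroup A} {F : Frame G A I}
  {D : HexData A I}

theorem mem_conjMap {g x : G} {B : Subgroup G} :
    x ∈ B.map (MulAut.conj g).toMonoidHom ↔ g⁻¹ * x * g ∈ B := by
  constructor
  · rintro ⟨y, hy, rfl⟩
    show g⁻¹ * (g * y * g⁻¹) * g ∈ B
    rwa [show g⁻¹ * (g * y * g⁻¹) * g = y by group]
  · exact fun h => ⟨_, h, show g * (g⁻¹ * x * g) * g⁻¹ = x by group⟩

theorem conjMap_conjMap (g h : G) (B : Subgroup G) :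
    (B.map (MulAut.conj h).toMonoidHom).map (MulAut.conj g).toMonoidHom = B.map (MulAut.conj (g * h)).toMonoidHom := by
  rw [Subgroup.map_map, map_mul]
  rfl

theorem conjMap_one (B : Subgroup G) : B.map (MulAut.conj (1 : G)).toMonoidHom = B := by
  ext x
  rw [mem_conjMap, inv_one, one_mul, mul_one]

theorem isTen_map {B : Subgroup G} (h : IsTen B) (g : G) : IsTen (B.map (MulAut.conj g).toMonoidHom) := by
  refine ⟨?_, (Subgroup.card_map_of_injective (MulAut.conj g).injective).trans h.2.1, ?_⟩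
  · rintro _ ⟨x, hx, rfl⟩
    rw [← map_mul, h.1 x hx, map_one]
  · ext y
    rw [mem_conjMap]
    conv_rhs => rw [← h.2.2]
    rw [Subgroup.mem_centralizer_iff, Subgroup.mem_centralizer_iff]
    constructor
    · intro hy x hx
      have h := hy (g * x * g⁻¹) ⟨x, hx, rfl⟩
      calc x * (g⁻¹ * y * g) = g⁻¹ * (g * x * g⁻¹ * y) * g := by group
        _ = g⁻¹ * (y * (g * x * g⁻¹)) * g := by rw [h]
        _ = g⁻¹ * y * g * x := by group
    · rintro hy _ ⟨x, hx, rfl⟩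
      show g * x * g⁻¹ * y = y * (g * x * g⁻¹)
      calc g * x * g⁻¹ * y = g * (x * (g⁻¹ * y * g)) * g⁻¹ := by group
        _ = g * (g⁻¹ * y * g * x) * g⁻¹ := by rw [hy x hx]
        _ = y * (g * x * g⁻¹) := by group

theorem isPGroup_ten {B : Subgroup G} (h : IsTen B) : IsPGroup 2 ↥B := by
  haveI : Fact (Nat.Prime 2) := ⟨Nat.prime_two⟩
  exact IsPGroup.of_card h.2.1

/-- A 2-subgroup of M24 moves into the model. -/
theorem exists_conj_G0 (Q : Subgroup ↥Cfsg.M24) (hQ : IsPGroup 2 ↥Q) : ∃ k : ↥Cfsg.M24, ∀ q ∈ Q,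
    ((k * q * k⁻¹ : ↥Cfsg.M24) : Equiv.Perm GolayPt) ∈ Cfsg.Lib.MathieuSylow.G0 := by
  haveI : Fact (Nat.Prime 2) := ⟨Nat.prime_two⟩
  have hcard : Nat.card ↥((Cfsg.Lib.MathieuSylow.G0).subgroupOf M24) = 2 ^ (Nat.card ↥M24).factorization 2 := by
    rw [Nat.card_congr (Subgroup.subgroupOfEquivOfLe Cfsg.Lib.MathieuSylow.G0_le).toEquiv,
      Cfsg.Lib.MathieuSylow.card_G0, card_M24, show (244823040 : ℕ) = 2 ^ 10 * 239085 by norm_num,
      Nat.factorization_mul (by norm_num) (by norm_num), Finsupp.add_apply,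
      Nat.Prime.factorization_pow Nat.prime_two, Finsupp.single_eq_same,
      Nat.factorization_eq_zero_of_not_dvd (by norm_num), add_zero]
  let P₀ : Sylow 2 ↥M24 := Sylow.ofCard _ hcard
  obtain ⟨P, hP⟩ := hQ.exists_le_sylow
  obtain ⟨k, hk⟩ := MulAction.exists_smul_eq (↥M24) P P₀
  refine ⟨k, fun q hq => ?_⟩
  have h : k * q * k⁻¹ ∈ (P₀ : Subgroup ↥M24) := hk ▸ ⟨q, hP hq, rfl⟩
  rw [Sylow.coe_ofCard] at h
  exact Subgroup.mem_subgroupOf.1 h

namespace TenSetup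

variable {S : Std F D} (P : TenSetup S)

/-- The pairs in the octad determine their points. -/
theorem pair_points {x y : GolayPt} (hx : x ∈ octO) (hy : y ∈ octO) (hxy : x ≠ y) {p q : GolayPt}
    (h : pairC (gidx p).val (gidx q).val = pairC (gidx x).val (gidx y).val) : p = x ∧ q = y ∨ p = y ∧ q = x := by
  have h1 := List.all_eq_true.1 (List.all_eq_true.1 pair_unique _ (mem_bits24.2 (gidx x).isLt)) _
    (mem_bits24.2 (gidx y).isLt)
  rw [mem_octO.1 hx, mem_octO.1 hy, Bool.and_self, Bool.not_true, Bool.false_or, Bool.or_eq_true] at h1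
  have h2 := List.all_eq_true.1 (List.all_eq_true.1 (h1.resolve_left fun e => hxy (gidx_injective (Fin.ext
    (Nat.eq_of_beq_eq_true e)))) _ (mem_bits24.2 (gidx p).isLt)) _ (mem_bits24.2 (gidx q).isLt)
  rw [h, Nat.beq_refl, Bool.not_true, Bool.false_or] at h2
  simp only [Bool.or_eq_true, Bool.and_eq_true, Nat.beq_eq] at h2
  rcases h2 with ⟨e1, e2⟩ | ⟨e1, e2⟩
  · exact Or.inl ⟨gidx_injective (Fin.ext e1), gidx_injective (Fin.ext e2)⟩
  · exact Or.inr ⟨gidx_injective (Fin.ext e1), gidx_injective (Fin.ext e2)⟩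

theorem pair_inW {x y : GolayPt} (hx : x ∈ octO) (hy : y ∈ octO) :
    inW (pairC (gidx x).val (gidx y).val) = true := by
  have h1 := List.all_eq_true.1 (List.all_eq_true.1 oct_pairs _ (mem_bits24.2 (gidx x).isLt)) _
    (mem_bits24.2 (gidx y).isLt)
  rwa [mem_octO.1 hx, mem_octO.1 hy, Bool.and_self, Bool.not_true, Bool.false_or] at h1

/-- A pair in the octad gives a member of the second class. -/
theorem pair_class {x y : GolayPt} (hxy : x ≠ y) :
    P.ev (pairC (gidx x).val (gidx y).val) ≠ 1 ∧ ¬ IsConj F.z (P.ev (pairC (gidx x).val (gidx y).val)) := by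
  have h : P.T.el (pairC (gidx x).val (gidx y).val) ∈ S.dSet := (P.T.dset _).2 ⟨x, y, hxy, P.T.el_pair x y⟩
  exact ⟨fun e => h.1 (Subtype.ext e), h.2⟩

/-- The image of a pair. -/
theorem conj_pair {n : G} (hn : n ∈ S.NV) {x y : GolayPt} (hxy : x ≠ y) :
    n * P.ev (pairC (gidx x).val (gidx y).val) * n⁻¹ =
      P.ev (pairC (gidx ((P.T.ψ ⟨n, hn⟩ : Equiv.Perm GolayPt) x)).val
        (gidx ((P.T.ψ ⟨n, hn⟩ : Equiv.Perm GolayPt) y)).val) := by
  have h := congrArg Subtype.val (P.T.rel ⟨n, hn⟩ x y hxy)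
  rw [S.normAut_apply, P.T.el_pair, P.T.el_pair] at h
  exact h

/-- The group is self-centralizing. -/
theorem isTen_A0 : IsTen P.A0 := by
  refine ⟨fun _ h => P.A0_sq h, P.card_A0, le_antisymm (fun x hx => ?_) fun x hx =>
    Subgroup.mem_centralizer_iff.2 fun y hy => (P.A0_comm hy hx).eq⟩
  rw [Subgroup.mem_centralizer_iff] at hx
  obtain ⟨a0, ha0, b0, hb0, hab⟩ := Finset.one_lt_card.1 (show 1 < octO.card by rw [octO_mem.2]; norm_num)
  have hA : ∀ {a b}, a ∈ octO → b ∈ octO → P.ev (pairC (gidx a).val (gidx b).val) ∈ P.A0 := fun ha hb =>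
    (P.ev_mem_A0 (pairC_lt _ _)).2 (pair_inW ha hb)
  obtain ⟨hne, hnc⟩ := P.pair_class hab
  have hxN : x ∈ S.NV := P.cen _ (P.ev_mem _) hne hnc
    (Subgroup.mem_centralizer_singleton_iff.2 (hx _ (hA ha0 hb0)).symm)
  set g := P.T.ψ ⟨x, hxN⟩
  have hpair : ∀ a ∈ octO, ∀ b ∈ octO, a ≠ b → (g : Equiv.Perm GolayPt) a = a ∧ (g : Equiv.Perm GolayPt) b = b ∨
      (g : Equiv.Perm GolayPt) a = b ∧ (g : Equiv.Perm GolayPt) b = a := fun a ha b hb hab => by
    have h := P.conj_pair hxN hab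
    rw [← hx _ (hA ha hb), mul_inv_cancel_right] at h
    exact pair_points ha hb hab (P.ev_inj (pairC_lt _ _) (pairC_lt _ _) h).symm
  have hfix : ∀ a ∈ octO, (g : Equiv.Perm GolayPt) a = a := fun a ha => by
    have h2 : 1 < (octO.erase a).card := by rw [Finset.card_erase_of_mem ha, octO_mem.2]; norm_num
    obtain ⟨b, hb, c, hc, hbc⟩ := Finset.one_lt_card.1 h2
    rw [Finset.mem_erase] at hb hc
    rcases hpair a ha b hb.2 hb.1.symm with h | h
    · exact h.1
    · rcases hpair a ha c hc.2 hc.1.symm with h' | h'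
      · exact h'.1
      · exact absurd (h.1.symm.trans h'.1) hbc
  obtain ⟨i, hi, hig⟩ := exists_rg hfix
  obtain ⟨v, hv, e⟩ := P.decomp hxN
  rw [show P.T.ψ ⟨x, hxN⟩ = g from rfl, ← hig] at e
  have hr : P.sg (rg i) ∈ P.A0 := ⟨64 * i, by omega, P.ph_high hi⟩
  rw [e]
  refine P.A0.mul_mem ((P.ev_mem_A0 hv).2 ((inW_iff hv).2 fun j hj => ?_)) hr
  have hj' : P.sg (rg j) ∈ P.A0 := ⟨64 * j, by omega, P.ph_high hj⟩
  have h := hx _ hj'
  rw [e, ← mul_assoc, P.sg_ev (rg_rep hj) hv, mul_assoc, mul_assoc, (P.A0_comm hj' hr).eq] at h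
  exact P.ev_inj (lin_lt (actL_lt _) _) hv (mul_right_cancel h)

/-- Every self-centralizing one in the normalizer moves to the standard one there. -/
theorem norm_form {B : Subgroup G} (hB : IsTen B) (hle : B ≤ S.NV) :
    ∃ g ∈ S.NV, B.map (MulAut.conj g).toMonoidHom = P.A0 := by
  classical
  obtain ⟨k, hk⟩ := exists_conj_G0 ((B.subgroupOf S.NV).map P.T.ψ)
    (((isPGroup_ten hB).of_equiv (Subgroup.subgroupOfEquivOfLe hle).symm).map _)
  set B' := B.map (MulAut.conj (P.sg k)).toMonoidHom with hB'def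
  have hB' : IsTen B' := isTen_map hB _
  have hle' : B' ≤ S.NV := by
    rintro _ ⟨x, hx, rfl⟩
    exact mul_mem (mul_mem (P.sg_mem k) (hle hx)) (inv_mem (P.sg_mem k))
  set R : Subgroup (Equiv.Perm GolayPt) :=
    (B'.subgroupOf S.NV).map (Cfsg.M24.subtype.comp P.T.ψ) with hR
  have hRG : R ≤ Cfsg.Lib.MathieuSylow.G0 := by
    rintro _ ⟨⟨x, hxN⟩, hx, rfl⟩
    obtain ⟨y, hy, rfl⟩ := Subgroup.mem_subgroupOf.1 hx
    have e : (⟨_, hxN⟩ : ↥S.NV) = P.σ k * ⟨y, hle hy⟩ * (P.σ k)⁻¹ := Subtype.ext rfl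
    show ((P.T.ψ _ : ↥Cfsg.M24) : Equiv.Perm GolayPt) ∈ _
    rw [e, map_mul, map_mul, map_inv, P.sec]
    exact hk _ ⟨⟨y, hle hy⟩, Subgroup.mem_subgroupOf.2 hy, rfl⟩
  have h2 : ∀ g ∈ R, g * g = 1 := by
    rintro _ ⟨x, hx, rfl⟩
    rw [← map_mul, show x * x = 1 from Subtype.ext (hB'.1 _ (Subgroup.mem_subgroupOf.1 hx)), map_one]
  have hcomm : ∀ {x y : G}, x ∈ B' → y ∈ B' → Commute x y := fun hx hy => JankoFour.commute_of_sq hB'.1 hx hy
  -- the part in the standard group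
  have hfix : ∀ v < 2048, P.ev v ∈ B' ↔ FixesAll R v := by
    intro v hv
    constructor
    · rintro hvB _ ⟨x, hx, rfl⟩ p hp
      have h := congrArg Subtype.val (P.T.act_el x hp hv)
      rw [S.normAut_apply, (hcomm (Subgroup.mem_subgroupOf.1 hx) hvB :
        Commute (x : G) (P.T.el v : G)).eq, mul_inv_cancel_right] at h
      exact (P.ev_inj hv (lin_lt (actL_lt _) _) h).symm
    · intro hF
      rw [← hB'.2.2]
      refine Subgroup.mem_centralizer_iff.2 fun x hx => ?_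
      have hm : ((P.T.ψ ⟨x, hle' hx⟩ : ↥Cfsg.M24) : Equiv.Perm GolayPt) ∈ R :=
        ⟨⟨x, hle' hx⟩, Subgroup.mem_subgroupOf.2 hx, rfl⟩
      obtain ⟨e, -, hrep⟩ := Cfsg.Lib.FusionSys.MathieuCert.Cert.key_of_mem Cfsg.Lib.MathieuSylow.hok0
        Cfsg.Lib.FusionSys.MathieuCert.certM24_genOK Cfsg.Lib.FusionSys.MathieuCert.certM24_treeOK
        Cfsg.Lib.FusionSys.MathieuCert.certM24_closedOK (hRG hm)
      have h := congrArg Subtype.val (P.T.act_el ⟨x, hle' hx⟩ hrep hv)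
      rw [S.normAut_apply, hF _ hm _ hrep] at h
      exact mul_inv_eq_iff_eq_mul.1 h
  have hcard : Nat.card ↥R * {v : ℕ | v < 2048 ∧ FixesAll R v}.ncard = 1024 := by
    let θ : ↥B' →* Equiv.Perm GolayPt := (Cfsg.M24.subtype.comp P.T.ψ).comp (Subgroup.inclusion hle')
    have hrange : θ.range = R := by
      ext g
      exact ⟨fun ⟨x, hx⟩ => ⟨_, Subgroup.mem_subgroupOf.2 x.2, hx⟩,
        fun ⟨x, hx, e⟩ => ⟨⟨x, Subgroup.mem_subgroupOf.1 hx⟩, e⟩⟩
    have hker : Nat.card ↥θ.ker = {v : ℕ | v < 2048 ∧ FixesAll R v}.ncard := by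
      rw [← Nat.card_coe_set_eq]
      refine (Nat.card_congr (Equiv.ofBijective (fun v : ↥{v : ℕ | v < 2048 ∧ FixesAll R v} =>
        (⟨⟨P.ev v, (hfix v v.2.1).2 v.2.2⟩, ?_⟩ : ↥θ.ker)) ⟨fun a b h => Subtype.ext (P.ev_inj a.2.1 b.2.1
          (congrArg (fun y : ↥θ.ker => ((y : ↥B') : G)) h)), ?_⟩)).symm
      · rw [MonoidHom.mem_ker]
        show ((P.T.ψ _ : ↥Cfsg.M24) : Equiv.Perm GolayPt) = 1
        rw [show Subgroup.inclusion hle' ⟨P.ev v, _⟩ = (⟨P.ev v, S.Vb_le_NV (P.ev_mem v)⟩ : ↥S.NV) from rfl,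
          P.psi_ev]
        rfl
      · rintro ⟨⟨x, hxB⟩, hx⟩
        have h1 : Subgroup.inclusion hle' ⟨x, hxB⟩ ∈ P.T.ψ.ker := Subtype.ext (MonoidHom.mem_ker.1 hx)
        rw [P.T.ker, Subgroup.mem_subgroupOf] at h1
        obtain ⟨v, hv, rfl⟩ := P.exists_ev h1
        exact ⟨⟨v, hv, (hfix v hv).1 hxB⟩, rfl⟩
    have h3 : Nat.card ↥θ.range * Nat.card ↥θ.ker = 1024 := by
      rw [← Subgroup.index_ker, θ.ker.index_mul_card, hB'.2.1]
      norm_num
    rwa [hker, hrange] at h3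
  have hne : R ≠ ⊥ := fun hbot => by
    have hsub : B' ≤ S.Vb := fun x hx => by
      have h1 : (⟨x, hle' hx⟩ : ↥S.NV) ∈ P.T.ψ.ker := by
        refine Subtype.ext ?_
        exact Subgroup.mem_bot.1 (hbot ▸ ⟨_, Subgroup.mem_subgroupOf.2 hx, rfl⟩)
      rwa [P.T.ker, Subgroup.mem_subgroupOf] at h1
    have hVB : S.Vb ≤ B' := fun y hy => hB'.2.2 ▸
      Subgroup.mem_centralizer_iff.2 fun x hx => (S.Vb_comm (hsub hx) hy).eq
    have h3 := Subgroup.card_dvd_of_le hVB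
    rw [hB'.2.1, S.card_Vb] at h3
    norm_num at h3
  obtain ⟨hmem, hR16⟩ := eq_candidate R hRG h2 hne hcard
  -- the members
  have hrR : ∀ g ∈ R, ∃ i < 16, (rg i : Equiv.Perm GolayPt) = g := fun g hg => by
    obtain ⟨j, hj, rfl⟩ := (hmem g).1 hg
    exact ikey_rg hj
  have hall : ∀ i < 16, (rg i : Equiv.Perm GolayPt) ∈ R := by
    choose f hf hfg using fun g : ↥R => hrR g g.2
    have hinj : Function.Injective (fun g : ↥R => (⟨f g, hf g⟩ : Fin 16)) := fun a b h => Subtype.ext (by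
      rw [← hfg a, ← hfg b]
      exact congrArg (fun i : Fin 16 => ((rg i : ↥Cfsg.M24) : Equiv.Perm GolayPt)) h)
    have hb := (Nat.bijective_iff_injective_and_card _).2 ⟨hinj, by
      rw [hR16, Nat.card_eq_fintype_card, Fintype.card_fin]⟩
    intro i hi
    obtain ⟨g, hg⟩ := hb.2 ⟨i, hi⟩
    rw [← show f g = i from congrArg Fin.val hg, hfg]
    exact g.2
  have hW : ∀ {v}, v < 2048 → inW v = true → P.ev v ∈ B' := fun {v} hv h => (hfix v hv).2 fun g hg p hp => by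
    obtain ⟨i, hi, rfl⟩ := hrR g hg
    have e1 : lin (actL p) v = lin (actL (rk i)) v := by
      refine congrArg (fun L => lin L v) (List.map_congr_left fun j hj => ?_)
      have hj' := List.mem_range.1 hj
      rw [← (hp.apply ⟨j, by omega⟩), ← hp.apply ⟨11, by norm_num⟩,
        ← ((rg_rep hi).apply ⟨j, by omega⟩), ← ((rg_rep hi).apply ⟨11, by norm_num⟩)]
    rw [e1]
    exact (inW_iff hv).1 h i hi
  -- the lifts
  have hlift : ∀ b < 4, ∃ c : Bool, P.ev (cst c (cobL.getD b 0)) * P.sg (rg (1 <<< b)) ∈ B' := by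
    intro b hb
    have hb16 : 1 <<< b < 16 := by interval_cases b <;> decide
    obtain ⟨⟨x, hxN⟩, hx, hxe⟩ := hall _ hb16
    replace hx : x ∈ B' := Subgroup.mem_subgroupOf.1 hx
    obtain ⟨v, hv, e⟩ := P.decomp hxN
    rw [show P.T.ψ ⟨x, hxN⟩ = rg (1 <<< b) from Subtype.ext hxe] at e
    have hfx : lin (actL (rk (1 <<< b))) v = v := by
      have h : P.ev v * P.sg (rg (1 <<< b)) * (P.ev v * P.sg (rg (1 <<< b))) =
          P.ev (v ^^^ lin (actL (rk (1 <<< b))) v) * P.sg (rg (1 <<< b ^^^ 1 <<< b)) := by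
        rw [rg_mul hb16 hb16, P.sg_mul, P.ev_xor, mul_assoc, ← mul_assoc (P.sg _) (P.ev v),
          P.sg_ev (rg_rep hb16) hv]
        group
      rw [← e, hB'.1 x hx, Nat.xor_self, rg_zero, P.sg_one, mul_one, ← P.ev_zero] at h
      exact (Nat.xor_eq_zero_iff.1 (P.ev_inj (by norm_num) (Nat.xor_lt_two_pow (n := 11) hv
        (lin_lt (actL_lt _) _)) h).symm).symm
    have hc := List.all_eq_true.1 (List.all_eq_true.1 cob_fixed b (List.mem_range.2 hb)) v (List.mem_range.2 hv)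
    rw [hfx, Nat.beq_refl, Bool.not_true, Bool.false_or, Bool.or_eq_true] at hc
    rcases hc with hc | hc
    · refine ⟨false, ?_⟩
      rw [show cst false (cobL.getD b 0) = 0 from rfl, P.ev_zero, one_mul,
        show P.sg (rg (1 <<< b)) = P.ev v * x by rw [e, ← mul_assoc, S.Vb_sq (P.ev_mem v), one_mul]]
      exact mul_mem (hW hv hc) hx
    · refine ⟨true, ?_⟩
      have hlt : v ^^^ cobL.getD b 0 < 2048 := Nat.xor_lt_two_pow (n := 11) hv
        (by interval_cases b <;> decide +kernel)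
      rw [show cst true (cobL.getD b 0) = v ^^^ (v ^^^ cobL.getD b 0) by
        rw [← Nat.xor_assoc, Nat.xor_self, Nat.zero_xor]; rfl, P.ev_xor,
        (S.Vb_comm (P.ev_mem v) (P.ev_mem _)).eq, mul_assoc, ← e]
      exact mul_mem (hW hlt hc) hx
  choose c hc using hlift
  set e := cst (c 0 (by norm_num)) 1 ^^^ cst (c 1 (by norm_num)) 2 ^^^ cst (c 2 (by norm_num)) 4 ^^^
    cst (c 3 (by norm_num)) 8 with hedef
  have he16 : e < 16 := by
    rw [hedef]
    cases c 0 (by norm_num) <;> cases c 1 (by norm_num) <;> cases c 2 (by norm_num) <;> cases c 3 (by norm_num) <;>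
      decide +kernel
  have hlb : ∀ b < 4, P.ev (lift e b) * P.sg (rg (1 <<< b)) ∈ B' ∧ lift e b < 2048 := by
    intro b hb
    have hbit : e.testBit b = c b hb := by
      rw [hedef]
      interval_cases b <;> cases c 0 (by norm_num) <;> cases c 1 (by norm_num) <;> cases c 2 (by norm_num) <;>
        cases c 3 (by norm_num) <;> decide +kernel
    rw [lift, hbit]
    refine ⟨hc b hb, ?_⟩
    generalize c b hb = t
    cases t <;> interval_cases b <;> decide +kernel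
  have hl := List.all_eq_true.1 lift_class e (List.mem_range.2 he16)
  rw [Bool.or_eq_true] at hl
  obtain ⟨u, hu, hu'⟩ := List.any_eq_true.1 (hl.resolve_left fun hn => by
    obtain ⟨i, hi, hn⟩ := List.any_eq_true.1 hn
    obtain ⟨j, hj, hn⟩ := List.any_eq_true.1 hn
    rw [List.mem_range] at hi hj
    rw [Bool.not_eq_true', ← Bool.not_eq_true, Nat.beq_eq] at hn
    refine hn ?_
    obtain ⟨h1, l1⟩ := hlb i hi
    obtain ⟨h2, l2⟩ := hlb j hj
    have hi16 : 1 <<< i < 16 := by interval_cases i <;> decide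
    have hj16 : 1 <<< j < 16 := by interval_cases j <;> decide
    have prod : ∀ {v w : ℕ} {a b : ℕ}, a < 16 → b < 16 → w < 2048 → P.ev v * P.sg (rg a) * (P.ev w * P.sg (rg b)) =
        P.ev (v ^^^ lin (actL (rk a)) w) * P.sg (rg (a ^^^ b)) := fun {v w a b} ha hb hw => by
      rw [rg_mul ha hb, P.sg_mul, P.ev_xor, mul_assoc, ← mul_assoc (P.sg _) (P.ev w), P.sg_ev (rg_rep ha) hw]
      group
    have h := (hcomm h1 h2).eq
    rw [prod hi16 hj16 l2, prod hj16 hi16 l1] at h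
    exact (P.decomp_unique (Nat.xor_lt_two_pow (n := 11) l1 (lin_lt (actL_lt _) _))
      (Nat.xor_lt_two_pow (n := 11) l2 (lin_lt (actL_lt _) _)) h).1)
  rw [Bool.and_eq_true, Nat.blt_eq] at hu'
  set B'' := B'.map (MulAut.conj (P.ev u)).toMonoidHom with hB''
  have hu2 : P.ev u * P.ev u = 1 := S.Vb_sq (P.ev_mem u)
  have hWle : ∀ a < 64, P.ph a ∈ B'' := fun a ha => by
    rw [P.ph_low ha]
    exact ⟨_, hW (wc_facts ha).2.1 (wc_facts ha).1, show P.ev u * P.ev (wc a) * (P.ev u)⁻¹ = P.ev (wc a) by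
      rw [(S.Vb_comm (P.ev_mem u) (P.ev_mem _)).eq, mul_inv_cancel_right]⟩
  have hgen : ∀ b < 4, P.sg (rg (1 <<< b)) ∈ B'' := by
    intro b hb
    have hb16 : 1 <<< b < 16 := by interval_cases b <;> decide
    obtain ⟨h1, l1⟩ := hlb b hb
    have hw := List.all_eq_true.1 hu'.2 b (List.mem_range.2 hb)
    set w := u ^^^ lin (actL (rk (1 <<< b))) u ^^^ lift e b with hwdef
    have hwlt : w < 2048 := Nat.xor_lt_two_pow (n := 11)
      (Nat.xor_lt_two_pow (n := 11) hu'.1 (lin_lt (actL_lt _) _)) l1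
    have e1 : P.ev u * (P.ev (lift e b) * P.sg (rg (1 <<< b))) * (P.ev u)⁻¹ = P.ev w * P.sg (rg (1 <<< b)) := by
      rw [show (P.ev u)⁻¹ = P.ev u from inv_eq_of_mul_eq_one_right hu2, hwdef, P.ev_xor, P.ev_xor,
        mul_assoc (P.ev u), mul_assoc (P.ev (lift e b)), P.sg_ev (rg_rep hb16) hu'.1,
        ← mul_assoc (P.ev (lift e b)), ← mul_assoc (P.ev u),
        (S.Vb_comm (P.ev_mem (lift e b)) (P.ev_mem _)).eq, ← mul_assoc (P.ev u)]
    have hm : P.ev w * P.sg (rg (1 <<< b)) ∈ B'' := ⟨_, h1, e1⟩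
    obtain ⟨a, ha, hae⟩ := exists_wc hwlt hw
    have hwm : P.ev w ∈ B'' := by rw [← hae, ← P.ph_low ha]; exact hWle a ha
    rw [show P.sg (rg (1 <<< b)) = P.ev w * (P.ev w * P.sg (rg (1 <<< b))) by
      rw [← mul_assoc, S.Vb_sq (P.ev_mem w), one_mul]]
    exact mul_mem hwm hm
  have hA : P.A0 ≤ B'' := by
    rintro _ ⟨x, hx, rfl⟩
    have hhigh : ∀ i < 16, P.sg (rg i) ∈ B'' := by
      intro i hi
      have hsplit : i = cst (i.testBit 0) (1 <<< 0) ^^^ cst (i.testBit 1) (1 <<< 1) ^^^ cst (i.testBit 2) (1 <<< 2) ^^^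
          cst (i.testBit 3) (1 <<< 3) := by
        interval_cases i <;> decide +kernel
      have hterm : ∀ (t : Bool) (b : ℕ), b < 4 → P.sg (rg (cst t (1 <<< b))) ∈ B'' := fun t b hb => by
        cases t
        · rw [show cst false (1 <<< b) = 0 from rfl, rg_zero, P.sg_one]; exact one_mem _
        · exact hgen b hb
      have hlt : ∀ (t : Bool) (b : ℕ), b < 4 → cst t (1 <<< b) < 16 := fun t b hb => by
        cases t <;> interval_cases b <;> decide +kernel
      have l0 := hlt (i.testBit 0) 0 (by norm_num)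
      have l1 := hlt (i.testBit 1) 1 (by norm_num)
      have l2 := hlt (i.testBit 2) 2 (by norm_num)
      have l3 := hlt (i.testBit 3) 3 (by norm_num)
      have t0 := hterm (i.testBit 0) 0 (by norm_num)
      have t1 := hterm (i.testBit 1) 1 (by norm_num)
      have t2 := hterm (i.testBit 2) 2 (by norm_num)
      have t3 := hterm (i.testBit 3) 3 (by norm_num)
      rw [hsplit, rg_mul (Nat.xor_lt_two_pow (n := 4) (Nat.xor_lt_two_pow (n := 4) l0 l1) l2) l3,
        rg_mul (Nat.xor_lt_two_pow (n := 4) l0 l1) l2, rg_mul l0 l1, P.sg_mul, P.sg_mul, P.sg_mul]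
      exact mul_mem (mul_mem (mul_mem t0 t1) t2) t3
    rw [show P.ph x = P.ph (x % 64) * P.sg (rg (x / 64)) by rw [P.ph_low (Nat.mod_lt x (by norm_num))]; rfl]
    exact mul_mem (hWle _ (Nat.mod_lt x (by norm_num))) (hhigh _ (by omega))
  have hfin : P.A0 = B'' := Subgroup.eq_of_le_of_card_ge hA (by
    rw [(isTen_map hB' _).2.1, P.card_A0])
  exact ⟨P.ev u * P.sg k, mul_mem (S.Vb_le_NV (P.ev_mem u)) (P.sg_mem k), by
    rw [← conjMap_conjMap, ← hB'def, ← hB'', hfin]⟩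

end TenSetup

/-- Every one of them moves into the normalizer. -/
theorem exists_in_NV (S : Std F D) {B : Subgroup G} (hB : IsTen B) :
    ∃ g : G, B.map (MulAut.conj g).toMonoidHom ≤ S.NV := by
  haveI : Fact (Nat.Prime 2) := ⟨Nat.prime_two⟩
  obtain ⟨Q₀, hV, -⟩ := F.exists_sylow_two_G (fun x hx => F.centralizer_z_iff.2 (S.Vb_z hx))
    (isBig_pGroup S.isBig)
  have hQ : (Q₀ : Subgroup G) ≤ S.NV := fun x hx => by
    refine mem_normalizer_of_map (S.two_group_unique Q₀.isPGroup' (isBig_map S.isBig x) S.isBig ?_ hV)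
    rintro _ ⟨y, hy, rfl⟩
    exact mul_mem (mul_mem hx (hV hy)) (inv_mem hx)
  obtain ⟨Q, hBQ⟩ := (isPGroup_ten hB).exists_le_sylow
  obtain ⟨g, hg⟩ := MulAction.exists_smul_eq G Q Q₀
  refine ⟨g, ?_⟩
  rintro _ ⟨x, hx, rfl⟩
  exact hQ (hg ▸ ⟨x, hBQ hx, rfl⟩)

end Cfsg.Lib.JankoFourTen
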