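import Cfsg.Agent.Lib.JankoFourTen.TenNormalizer
import Cfsg.Agent.Lib.JankoFourTen.LabelChecks
import Cfsg.Agent.Lib.Linear.SLBasic

/-!
# The normalizer modulo the group of order `2¹⁰` is the linear group of dimension five
-/

set_option autoImplicit false
set_option maxRecDepth 100000
set_option linter.style.haveILetI false
set_option linter.unusedSectionVars false

namespace Cfsg.Lib.JankoFourTen

open Cfsg Cfsg.Lib.Concrete Cfsg.Lib.JankoFour Cfsg.Lib.JankoFour.BitModel

/-- The space of the labels. -/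
abbrev V5 := Fin 5 → ZMod 2

/-- The number of a label. -/
def enc (v : V5) : ℕ := (v 0).val + 2 * (v 1).val + 4 * (v 2).val + 8 * (v 3).val + 16 * (v 4).val

theorem enc_facts : (∀ v : V5, enc v < 32 ∧ (enc v = 0 → v = 0)) ∧
    (∀ k < 32, ∃ v : V5, enc v = k) := by decide +kernel

theorem enc_add : ∀ v w : V5, enc (v + w) = enc v ^^^ enc w := by decide +kernel

theorem enc_inj {v w : V5} (h : enc v = enc w) : v = w := by
  have h0 : enc (v + w) = 0 := by rw [enc_add, h, Nat.xor_self]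
  have hvw := (enc_facts.1 _).2 h0
  have h2 : ∀ v w : V5, v + w = 0 → v = w := by decide +kernel
  exact h2 v w hvw

variable {G : Type*} [Group G] [Finite G] {A : Type} [Group A] {I : Subgroup A} {F : Frame G A I}
  {D : HexData A I}

namespace TenSetup

variable {S : Std F D} (P : TenSetup S)

theorem inLab {h : ℕ} (h32 : h < 32) (h0 : h ≠ 0) : (∀ y < 64, lab h y < 1024) ∧
    ∀ x, (labMask.getD h 0).testBit x = true ↔ ∃ y < 64, lab h y = x := by
  have hc := List.all_eq_true.1 lab_mask h (List.mem_range.2 h32)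
  rw [Bool.or_eq_true, Nat.beq_eq] at hc
  have hc' := hc.resolve_left h0
  rw [Bool.and_eq_true, Nat.beq_eq, List.all_eq_true] at hc'
  refine ⟨fun y hy => Nat.blt_eq.mp (hc'.2 y (List.mem_range.2 hy)), fun x => ?_⟩
  have key : ∀ (l : List ℕ) (r : ℕ), (l.foldl (fun r y => r ||| 1 <<< lab h y) r).testBit x = true ↔
      r.testBit x = true ∨ ∃ y ∈ l, lab h y = x := by
    intro l
    induction l with
    | nil => intro r; simp
    | cons a l ih =>
      intro r
      rw [List.foldl_cons, ih, Nat.testBit_or, Bool.or_eq_true, Nat.one_shiftLeft, Nat.testBit_two_pow,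
        decide_eq_true_eq]
      simp [or_assoc]
  rw [← hc'.1, key]
  simp

theorem lab_xor (h y y' : ℕ) : lab h (y ^^^ y') = lab h y ^^^ lab h y' := lin_xor _ y y'

theorem lab_zero (h : ℕ) : lab h 0 = 0 := by
  have := lab_xor h 0 0
  rwa [Nat.xor_self, Nat.xor_self] at this

/-- A conjugate of the part in the standard group, by its number. -/
noncomputable def LW (h : ℕ) : Subgroup G where
  carrier := {g | (h < 32 ∧ h ≠ 0 ∧ ∃ y < 64, P.ph (lab h y) = g) ∨ g = 1}
  one_mem' := Or.inr rfl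
  mul_mem' := by
    rintro a b (⟨h1, h2, y, hy, rfl⟩ | rfl) hb
    · rcases hb with ⟨-, -, y', hy', rfl⟩ | rfl
      · exact Or.inl ⟨h1, h2, y ^^^ y', Nat.xor_lt_two_pow (n := 6) hy hy', by
          rw [lab_xor, P.ph_xor ((inLab h1 h2).1 y hy) ((inLab h1 h2).1 y' hy')]⟩
      · exact Or.inl ⟨h1, h2, y, hy, (mul_one _).symm⟩
    · rwa [one_mul]
  inv_mem' := by
    rintro a (⟨h1, h2, y, hy, rfl⟩ | rfl)
    · refine Or.inl ⟨h1, h2, y, hy, ?_⟩
      rw [eq_inv_iff_mul_eq_one, ← P.ph_xor ((inLab h1 h2).1 y hy) ((inLab h1 h2).1 y hy), Nat.xor_self, P.ph_zero]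
    · exact Or.inr inv_one

theorem LW_le (h : ℕ) : P.LW h ≤ P.A0 := by
  rintro g (⟨h1, h2, y, hy, rfl⟩ | rfl)
  · exact ⟨_, (inLab h1 h2).1 y hy, rfl⟩
  · exact one_mem _

theorem LW_zero : P.LW 0 = ⊥ := by
  rw [eq_bot_iff]
  rintro g (⟨-, h, -⟩ | rfl)
  · exact absurd rfl h
  · exact one_mem _

theorem mem_LW {h x : ℕ} (h32 : h < 32) (h0 : h ≠ 0) (hx : x < 1024) :
    P.ph x ∈ P.LW h ↔ (labMask.getD h 0).testBit x = true := by
  rw [(inLab h32 h0).2]
  constructor
  · rintro (⟨-, -, y, hy, e⟩ | e)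
    · exact ⟨y, hy, P.ph_inj ((inLab h32 h0).1 y hy) hx e⟩
    · refine ⟨0, by norm_num, ?_⟩
      rw [lab_zero]
      exact (P.ph_inj hx (by norm_num) (e.trans P.ph_zero.symm)).symm
  · rintro ⟨y, hy, rfl⟩
    exact Or.inl ⟨h32, h0, y, hy, rfl⟩

theorem card_LW {h : ℕ} (h32 : h < 32) (h0 : h ≠ 0) : Nat.card ↥(P.LW h) = 64 := by
  have hb : Function.Bijective (fun y : Fin 64 => (⟨P.ph (lab h y), Or.inl ⟨h32, h0, y, y.isLt, rfl⟩⟩ : ↥(P.LW h))) := by
    refine ⟨fun a b e => ?_, fun g => ?_⟩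
    · have h1 := P.ph_inj ((inLab h32 h0).1 a a.isLt) ((inLab h32 h0).1 b b.isLt) (congrArg Subtype.val e)
      have hc := List.all_eq_true.1 lab_card h (List.mem_range.2 h32)
      rw [Bool.or_eq_true, Nat.beq_eq, List.all_eq_true] at hc
      have hlt : (a : ℕ) ^^^ (b : ℕ) < 64 := Nat.xor_lt_two_pow (n := 6) a.isLt b.isLt
      have hc' := hc.resolve_left h0 _ (List.mem_range.2 hlt)
      rw [lab_xor, h1, Nat.xor_self, Bool.or_eq_true, Nat.beq_eq, Nat.beq_refl] at hc'
      exact Fin.ext (Nat.xor_eq_zero_iff.1 (hc'.resolve_right (by decide)))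
    · obtain ⟨g, hg⟩ := g
      rcases hg with ⟨-, -, y, hy, rfl⟩ | rfl
      · exact ⟨⟨y, hy⟩, rfl⟩
      · exact ⟨⟨0, by norm_num⟩, Subtype.ext (by simp [lab_zero, P.ph_zero])⟩
  rw [← Nat.card_eq_of_bijective _ hb, Nat.card_eq_fintype_card, Fintype.card_fin]

/-- The part in the standard group. -/
noncomputable def W0 : Subgroup G := P.A0 ⊓ S.Vb

theorem card_W0 : Nat.card ↥P.W0 = 64 := by
  have hb : Function.Bijective (fun y : Fin 64 => (⟨P.ph y, ⟨y, by omega, rfl⟩, by
      rw [P.ph_low y.isLt]; exact P.ev_mem _⟩ : ↥P.W0)) := by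
    refine ⟨fun a b e => Fin.ext (P.ph_inj (by omega) (by omega) (congrArg Subtype.val e)), fun g => ?_⟩
    obtain ⟨y, hy, e⟩ := P.Vb_part g.2.1 g.2.2
    exact ⟨⟨y, hy⟩, Subtype.ext e⟩
  rw [← Nat.card_eq_of_bijective _ hb, Nat.card_eq_fintype_card, Fintype.card_fin]

theorem zMask_iff {x : ℕ} (hx : x < 1024) (hx0 : x ≠ 0) : IsConj F.z (P.ph x) ↔ zMask.testBit x = true := by
  constructor
  · intro h
    have hm : P.ph x ∈ P.cls true := ⟨⟨x, hx, rfl⟩, fun e => hx0 (P.ph_inj hx (by norm_num) (e.trans P.ph_zero.symm)),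
      fun _ => rfl, fun _ => h⟩
    rw [P.classes.2] at hm
    obtain ⟨y, hy, e⟩ := hm
    have hy1 : y < 1024 := by
      simp only [Set.mem_ofPred_eq, Nat.testBit_or, Bool.or_eq_true] at hy
      exact hy.elim (fun h => (orb_lt (by norm_num) h).1) fun h => (orb_lt (by norm_num) h).1
    rw [← P.ph_inj hy1 hx e]
    exact hy
  · intro h
    have hm : P.ph x ∈ P.cls true := by rw [P.classes.2]; exact ⟨x, h, rfl⟩
    exact hm.2.2.2 rfl

/-- Each labelled subgroup is a conjugate of the part in the standard group. -/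
theorem LW_conj {h : ℕ} (h32 : h < 32) (h0 : h ≠ 0) :
    ∃ n ∈ P.N0, P.W0.map (MulAut.conj n).toMonoidHom = P.LW h := by
  have hc := List.all_eq_true.1 lab_rep h (List.mem_range.2 h32)
  rw [Bool.or_eq_true, Nat.beq_eq] at hc
  have hc' := hc.resolve_left h0
  simp only [Bool.and_eq_true, Nat.blt_eq, List.all_eq_true, List.mem_range] at hc'
  obtain ⟨⟨hs, hs1⟩, hbase⟩ := hc'
  set s := labRep.getD h 0
  have hsm : P.ph s ∈ P.cls false := by rw [P.classes.1]; exact ⟨s, hs, rfl⟩
  obtain ⟨n, hn, e⟩ := P.cls_transitive P.rep_facts.1 hsm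
  refine ⟨n, hn, (Subgroup.eq_of_le_of_card_ge ?_ ?_).symm⟩
  · have hb : ∀ k < 6, P.ph ((labBase.getD h []).getD k 0) ∈ P.W0.map (MulAut.conj n).toMonoidHom := by
      intro k hk
      obtain ⟨hb1, hK⟩ := hbase k hk
      set b := (labBase.getD h []).getD k 0
      rw [inK, Bool.and_eq_true] at hK
      have hz1 : IsConj F.z (P.ph b) := by
        refine (P.zMask_iff hb1 fun e => ?_).2 hK.1
        rw [e] at hK
        have : zMask.testBit 0 = false := by decide +kernel
        rw [this] at hK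
        exact Bool.noConfusion hK.1
      have hz2 : IsConj F.z (P.ph b * P.ph s) := by
        rw [← P.ph_xor hb1 hs1]
        refine (P.zMask_iff (Nat.xor_lt_two_pow (n := 10) hb1 hs1) fun e => ?_).2 hK.2
        rw [e] at hK
        have : zMask.testBit 0 = false := by decide +kernel
        rw [this] at hK
        exact Bool.noConfusion hK.2
      obtain ⟨x, hx, hxe⟩ := P.conj_mem_A0 (inv_mem hn) (⟨b, hb1, rfl⟩ : P.ph b ∈ P.A0)
      rw [inv_inv] at hxe
      have hx1 : IsConj F.z (P.ph x) := by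
        rw [hxe, show n⁻¹ * P.ph b * n = n⁻¹ * P.ph b * n⁻¹⁻¹ by group, isConj_conj_iff]
        exact hz1
      have hx2 : IsConj F.z (P.ph (x ^^^ 1)) := by
        rw [P.ph_xor hx (by norm_num), hxe, show n⁻¹ * P.ph b * n * P.ph 1 =
          n⁻¹ * (P.ph b * (n * P.ph 1 * n⁻¹)) * n⁻¹⁻¹ by group, e, isConj_conj_iff]
        exact hz2
      have hne : ∀ {x}, IsConj F.z (P.ph x) → x ≠ 0 := fun {x} hc e0 => by
        rw [e0, P.ph_zero, isConj_one_left] at hc
        exact F.ctx.ne_one hc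
      have hlow : x < 64 := by
        have hs' := List.all_eq_true.1 lab_std x (List.mem_range.2 hx)
        rw [inK, (P.zMask_iff hx (hne hx1)).1 hx1,
          (P.zMask_iff (Nat.xor_lt_two_pow (n := 10) hx (by norm_num)) (hne hx2)).1 hx2, Bool.and_self,
          Bool.not_true, Bool.false_or, Nat.blt_eq] at hs'
        exact hs'
      exact ⟨P.ph x, ⟨⟨x, hx, rfl⟩, by rw [P.ph_low hlow]; exact P.ev_mem _⟩,
        show n * P.ph x * n⁻¹ = P.ph b by rw [hxe]; group⟩
    set Q := P.W0.map (MulAut.conj n).toMonoidHom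
    have hb1 : ∀ k < 6, (labBase.getD h []).getD k 0 < 1024 := fun k hk => (hbase k hk).1
    have hlen : ∀ i, 6 ≤ i → (labBase.getD h []).getD i 0 = 0 := by
      have hl : ((List.range 32).all fun h => Nat.ble (labBase.getD h []).length 6) = true := by decide +kernel
      intro i hi
      have := Nat.le_of_ble_eq_true (List.all_eq_true.1 hl h (List.mem_range.2 h32))
      rw [List.getD_eq_default _ _ (by omega)]
    rintro g (⟨-, -, y, hy, rfl⟩ | rfl)
    swap
    · exact one_mem _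
    have key : ∀ (l : List ℕ) (r : ℕ), r < 1024 → P.ph r ∈ Q →
        let f := l.foldl (fun r i => r ^^^ cst (y.testBit i) ((labBase.getD h []).getD i 0)) r
        f < 1024 ∧ P.ph f ∈ Q := by
      intro l
      induction l with
      | nil => intro r h1 h2; exact ⟨h1, h2⟩
      | cons a l ih =>
        intro r h1 h2
        rw [List.foldl_cons]
        rcases Nat.lt_or_ge a 6 with ha | ha
        · cases hy' : y.testBit a
          · exact ih _ (by simpa [cst] using h1) (by simpa [cst] using h2)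
          · have e : r ^^^ cst true ((labBase.getD h []).getD a 0) = r ^^^ (labBase.getD h []).getD a 0 := rfl
            refine ih _ (e ▸ Nat.xor_lt_two_pow (n := 10) h1 (hb1 a ha)) ?_
            rw [e, P.ph_xor h1 (hb1 a ha)]
            exact mul_mem h2 (hb a ha)
        · have e : r ^^^ cst (y.testBit a) ((labBase.getD h []).getD a 0) = r := by
            rw [hlen a ha]
            cases y.testBit a <;> simp [cst]
          exact ih _ (e.symm ▸ h1) (e.symm ▸ h2)
    exact (key (List.range 11) 0 (by norm_num) (by rw [P.ph_zero]; exact one_mem _)).2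
  · rw [Subgroup.card_map_of_injective (MulAut.conj n).injective, P.card_W0, P.card_LW h32 h0]

theorem LW_inj {a b : ℕ} (ha : a < 32) (hb : b < 32) (e : P.LW a = P.LW b) : a = b := by
  by_cases ha0 : a = 0
  · subst ha0
    by_contra hne
    have h := P.card_LW hb (Ne.symm hne)
    rw [← e, P.LW_zero, Subgroup.card_bot] at h
    norm_num at h
  by_cases hb0 : b = 0
  · subst hb0
    have h := P.card_LW ha ha0
    rw [e, P.LW_zero, Subgroup.card_bot] at h
    norm_num at h
  have hm : labMask.getD a 0 = labMask.getD b 0 := Nat.eq_of_testBit_eq fun x => by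
    rw [Bool.eq_iff_iff]
    by_cases hx : x < 1024
    · rw [← P.mem_LW ha ha0 hx, ← P.mem_LW hb hb0 hx, e]
    · refine ⟨fun h => ?_, fun h => ?_⟩
      · obtain ⟨y, hy, rfl⟩ := ((inLab ha ha0).2 x).1 h
        exact absurd ((inLab ha ha0).1 y hy) hx
      · obtain ⟨y, hy, rfl⟩ := ((inLab hb hb0).2 x).1 h
        exact absurd ((inLab hb hb0).1 y hy) hx
  have hc := List.all_eq_true.1 (List.all_eq_true.1 lab_distinct a (List.mem_range.2 ha)) b (List.mem_range.2 hb)
  rw [hm, Nat.beq_refl, Bool.not_true, Bool.or_false] at hc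
  simp only [Bool.or_eq_true, Nat.beq_eq] at hc
  exact (hc.resolve_left (not_or.2 ⟨ha0, hb0⟩))

/-- The subgroup of a label. -/
noncomputable def LV (v : V5) : Subgroup G := P.LW (enc v)

theorem LV_inj {v w : V5} (e : P.LV v = P.LV w) : v = w :=
  enc_inj (P.LW_inj (enc_facts.1 v).1 (enc_facts.1 w).1 e)

/-- The conjugates of the part are the labelled ones. -/
theorem conj_W0 {n : G} (hn : n ∈ P.N0) : ∃ v : V5, P.W0.map (MulAut.conj n).toMonoidHom = P.LV v := by
  classical
  have hNM : ∀ m ∈ P.NM, P.W0.map (MulAut.conj m).toMonoidHom = P.W0 := fun m hm => by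
    refine Subgroup.eq_of_le_of_card_ge ?_ (by rw [Subgroup.card_map_of_injective (MulAut.conj m).injective])
    rintro _ ⟨x, hx, rfl⟩
    exact ⟨P.conj_mem_A0 hm.1 hx.1, S.conj_mem_Vb hm.2 hx.2⟩
  have hwd : ∀ a b : ↥P.N0, QuotientGroup.leftRel (P.NM.subgroupOf P.N0) a b →
      P.W0.map (MulAut.conj (a : G)).toMonoidHom = P.W0.map (MulAut.conj (b : G)).toMonoidHom := fun a b hab => by
    rw [QuotientGroup.leftRel_apply, Subgroup.mem_subgroupOf] at hab
    rw [show (b : G) = a * ((a⁻¹ * b : ↥P.N0) : G) by simp, ← conjMap_conjMap, hNM _ hab]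
  let φ : ↥P.N0 ⧸ P.NM.subgroupOf P.N0 → Subgroup G :=
    Quotient.lift (fun a : ↥P.N0 => P.W0.map (MulAut.conj (a : G)).toMonoidHom) hwd
  let ι : {v : V5 // v ≠ 0} → ↥(Set.range φ) := fun v => ⟨P.LV v, by
    obtain ⟨m, hm, e⟩ := P.LW_conj (enc_facts.1 v.1).1 fun h => v.2 ((enc_facts.1 v.1).2 h)
    exact ⟨QuotientGroup.mk ⟨m, hm⟩, e⟩⟩
  have hinj : Function.Injective ι := fun a b h => Subtype.ext (P.LV_inj (congrArg Subtype.val h))
  have hle : Nat.card ↥(Set.range φ) ≤ 31 := by
    refine (Finite.card_range_le φ).trans ?_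
    rw [← Subgroup.index, ← Subgroup.relIndex]
    have h := (P.NM.subgroupOf P.N0).index_mul_card
    rw [Nat.card_congr (Subgroup.subgroupOfEquivOfLe (show P.NM ≤ P.N0 from inf_le_left)).toEquiv, P.card_NM,
      P.card_N0] at h
    exact le_of_eq (Nat.eq_of_mul_eq_mul_right (by norm_num) h)
  have h31 : Nat.card {v : V5 // v ≠ 0} = 31 := by
    rw [Nat.card_eq_fintype_card]
    decide +kernel
  have hsurj := hinj.bijective_of_nat_card_le (by rw [h31]; exact hle)
  obtain ⟨v, hv⟩ := hsurj.2 ⟨_, QuotientGroup.mk ⟨n, hn⟩, rfl⟩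
  exact ⟨v, (congrArg Subtype.val hv).symm⟩

theorem conj_LV {n : G} (hn : n ∈ P.N0) (v : V5) : ∃ w : V5, (P.LV v).map (MulAut.conj n).toMonoidHom = P.LV w := by
  by_cases hv : v = 0
  · exact ⟨0, by subst hv; rw [LV, show enc 0 = 0 by decide, P.LW_zero, Subgroup.map_bot]⟩
  obtain ⟨m, hm, e⟩ := P.LW_conj (enc_facts.1 v).1 fun h => hv ((enc_facts.1 v).2 h)
  rw [LV, ← e, conjMap_conjMap]
  exact P.conj_W0 (mul_mem hn hm)

theorem line_iff {a b c : V5} (ha : a ≠ 0) (hb : b ≠ 0) (hc : c ≠ 0) (hab : a ≠ b) (hac : a ≠ c) (hbc : b ≠ c) :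
    Nat.card ↥(P.LV a ⊓ P.LV b ⊓ P.LV c) = 8 ↔ c = a + b := by
  classical
  have n0 : ∀ {v : V5}, v ≠ 0 → enc v ≠ 0 := fun {v} h e => h ((enc_facts.1 v).2 e)
  have l32 := fun v => (enc_facts.1 v).1
  set M := labMask.getD (enc a) 0 &&& labMask.getD (enc b) 0 &&& labMask.getD (enc c) 0
  have hM : M < 2 ^ 1024 := Nat.lt_pow_two_of_testBit _ fun i hi => by
    rw [Bool.eq_false_iff]
    intro h
    rw [Nat.testBit_and, Nat.testBit_and, Bool.and_eq_true, Bool.and_eq_true] at h
    obtain ⟨y, hy, rfl⟩ := ((inLab (l32 a) (n0 ha)).2 i).1 h.1.1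
    exact absurd ((inLab (l32 a) (n0 ha)).1 y hy) (not_lt.2 hi)
  have hset : ((P.LV a ⊓ P.LV b ⊓ P.LV c : Subgroup G) : Set G) = P.ph '' {x | M.testBit x = true} := by
    ext g
    constructor
    · rintro ⟨⟨h1, h2⟩, h3⟩
      obtain ⟨x, hx, rfl⟩ := P.LW_le _ h1
      refine ⟨x, ?_, rfl⟩
      show M.testBit x = true
      rw [Nat.testBit_and, Nat.testBit_and, (P.mem_LW (l32 a) (n0 ha) hx).1 h1, (P.mem_LW (l32 b) (n0 hb) hx).1 h2,
        (P.mem_LW (l32 c) (n0 hc) hx).1 h3]
      rfl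
    · rintro ⟨x, hx, rfl⟩
      simp only [Set.mem_ofPred_eq, M, Nat.testBit_and, Bool.and_eq_true] at hx
      obtain ⟨y, hy, rfl⟩ := ((inLab (l32 a) (n0 ha)).2 x).1 hx.1.1
      have hx1 := (inLab (l32 a) (n0 ha)).1 y hy
      exact ⟨⟨(P.mem_LW (l32 a) (n0 ha) hx1).2 hx.1.1, (P.mem_LW (l32 b) (n0 hb) hx1).2 hx.1.2⟩,
        (P.mem_LW (l32 c) (n0 hc) hx1).2 hx.2⟩
  have hk := List.all_eq_true.1 (List.all_eq_true.1 (List.all_eq_true.1 lab_line (enc a) (List.mem_range.2 (l32 a)))
    (enc b) (List.mem_range.2 (l32 b))) (enc c) (List.mem_range.2 (l32 c))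
  simp only [Bool.or_eq_true, Nat.beq_eq] at hk
  have hk' := hk.resolve_left (by
    simp only [not_or]
    exact ⟨⟨⟨⟨⟨n0 ha, n0 hb⟩, n0 hc⟩, fun h => hab (enc_inj h)⟩, fun h => hac (enc_inj h)⟩, fun h => hbc (enc_inj h)⟩)
  rw [beq_iff_eq, cntUp_eq 9 1024 _ hM, ← P.ncard_image _ hM, ← hset,
    ← Nat.card_coe_set_eq, SetLike.coe_sort_coe, Bool.eq_iff_iff, Nat.beq_eq, Nat.beq_eq] at hk'
  constructor
  · intro h
    rw [h] at hk'
    exact enc_inj ((hk'.1 rfl).trans (enc_add a b).symm)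
  · intro h
    subst h
    have := hk'.2 (enc_add a b)
    omega

theorem exists_pi (n : ↥P.N0) :
    ∃ f : V5 → V5, ∀ v, (P.LV v).map (MulAut.conj (n : G)).toMonoidHom = P.LV (f v) :=
  ⟨fun v => (P.conj_LV n.2 v).choose, fun v => (P.conj_LV n.2 v).choose_spec⟩

/-- The map on the labels. -/
noncomputable def pi (n : ↥P.N0) : V5 → V5 := (P.exists_pi n).choose

theorem pi_spec (n : ↥P.N0) (v : V5) : (P.LV v).map (MulAut.conj (n : G)).toMonoidHom = P.LV (P.pi n v) :=
  (P.exists_pi n).choose_spec v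

theorem pi_eq {n : ↥P.N0} {v w : V5} (h : (P.LV v).map (MulAut.conj (n : G)).toMonoidHom = P.LV w) :
    P.pi n v = w := P.LV_inj ((P.pi_spec n v).symm.trans h)

theorem pi_mul (n m : ↥P.N0) (v : V5) : P.pi (n * m) v = P.pi n (P.pi m v) :=
  P.pi_eq (by rw [Subgroup.coe_mul, ← conjMap_conjMap, P.pi_spec, P.pi_spec])

theorem pi_one (v : V5) : P.pi 1 v = v := P.pi_eq (by rw [Subgroup.coe_one, conjMap_one])

theorem pi_inj (n : ↥P.N0) : Function.Injective (P.pi n) := fun a b h => by
  have := congrArg (P.pi n⁻¹) h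
  rwa [← P.pi_mul, ← P.pi_mul, inv_mul_cancel, P.pi_one, P.pi_one] at this

theorem pi_zero (n : ↥P.N0) : P.pi n 0 = 0 :=
  P.pi_eq (by rw [LV, show enc 0 = 0 by decide, P.LW_zero, Subgroup.map_bot])

theorem pi_add (n : ↥P.N0) (a b : V5) : P.pi n (a + b) = P.pi n a + P.pi n b := by
  have h2 : ∀ v : V5, v + v = 0 := by decide +kernel
  by_cases ha : a = 0
  · subst ha; rw [P.pi_zero, zero_add, zero_add]
  by_cases hb : b = 0
  · subst hb; rw [P.pi_zero, add_zero, add_zero]
  by_cases hab : a = b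
  · subst hab; rw [h2, h2, P.pi_zero]
  have hc : a + b ≠ 0 := fun h => hab (add_right_cancel (h.trans (h2 b).symm))
  have hac : a ≠ a + b := fun h => hb (left_eq_add.1 h)
  have hbc : b ≠ a + b := fun h => ha (right_eq_add.1 h)
  have hinj := P.pi_inj n
  have ne0 : ∀ {v}, v ≠ 0 → P.pi n v ≠ 0 := fun hv e => hv (hinj (e.trans (P.pi_zero n).symm))
  refine (P.line_iff (ne0 ha) (ne0 hb) (ne0 hc) (hinj.ne hab) (hinj.ne hac) (hinj.ne hbc)).1 ?_
  rw [← P.pi_spec, ← P.pi_spec, ← P.pi_spec, ← Subgroup.map_inf_eq _ _ _ (MulAut.conj (n : G)).injective,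
    ← Subgroup.map_inf_eq _ _ _ (MulAut.conj (n : G)).injective,
    Subgroup.card_map_of_injective (MulAut.conj (n : G)).injective]
  exact (P.line_iff ha hb hc hab hac hbc).2 rfl

/-- The linear map of an element. -/
noncomputable def lmap (n : ↥P.N0) : V5 →ₗ[ZMod 2] V5 :=
  AddMonoidHom.toZModLinearMap 2 { toFun := P.pi n, map_zero' := P.pi_zero n, map_add' := P.pi_add n }

theorem lmap_apply (n : ↥P.N0) (v : V5) : P.lmap n v = P.pi n v := rfl

/-- The homomorphism to the linear group. -/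
noncomputable def toSL : ↥P.N0 →* Matrix.SpecialLinearGroup (Fin 5) (ZMod 2) :=
  have hmul : ∀ n m, LinearMap.toMatrix' (P.lmap (n * m)) = LinearMap.toMatrix' (P.lmap n) * LinearMap.toMatrix' (P.lmap m) :=
    fun n m => by
      rw [← LinearMap.toMatrix'_comp]
      exact congrArg _ (LinearMap.ext fun v => P.pi_mul n m v)
  have hone : LinearMap.toMatrix' (P.lmap 1) = 1 := by
    rw [show P.lmap 1 = LinearMap.id from LinearMap.ext P.pi_one, LinearMap.toMatrix'_id]
  have hdet : ∀ n, (LinearMap.toMatrix' (P.lmap n)).det = 1 := fun n => by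
    have h := congrArg Matrix.det (hmul n n⁻¹)
    rw [mul_inv_cancel, hone, Matrix.det_one, Matrix.det_mul] at h
    have hz : ∀ a b : ZMod 2, 1 = a * b → a = 1 := by decide
    exact hz _ _ h
  MonoidHom.mk' (fun n => ⟨LinearMap.toMatrix' (P.lmap n), hdet n⟩) fun n m => Subtype.ext (hmul n m)

theorem pi_of_ker {n : ↥P.N0} (h : P.toSL n = 1) (v : V5) : P.pi n v = v := by
  have h1 : LinearMap.toMatrix' (P.lmap n) = 1 := congrArg Subtype.val h
  rw [← LinearMap.toMatrix'_id] at h1
  exact LinearMap.congr_fun (LinearMap.toMatrix'.injective h1) v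

theorem ker_toSL : P.toSL.ker = P.A0.subgroupOf P.N0 := by
  ext n
  rw [MonoidHom.mem_ker, Subgroup.mem_subgroupOf]
  constructor
  · intro h
    have hfix : ∀ v, (P.LV v).map (MulAut.conj (n : G)).toMonoidHom = P.LV v := fun v => by
      rw [P.pi_spec, P.pi_of_ker h]
    have hz : ∀ k < 10, zBase.getD k 0 < 1024 ∧ Commute (n : G) (P.ph (zBase.getD k 0)) := by
      intro k hk
      have hc := List.all_eq_true.1 z_triple k (List.mem_range.2 hk)
      simp only [Bool.and_eq_true, Bool.not_eq_true', Nat.blt_eq, Nat.beq_eq] at hc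
      obtain ⟨⟨⟨⟨⟨⟨⟨⟨ht1, ht2⟩, ht3⟩, n1⟩, n2⟩, n3⟩, hz0⟩, hlt⟩, hM⟩ := hc
      set z := zBase.getD k 0
      set t := zTriple.getD k (0, 0, 0)
      refine ⟨hlt, ?_⟩
      have m1 : t.1 ≠ 0 := fun e => by rw [e, Nat.beq_refl] at n1; exact Bool.noConfusion n1
      have m2 : t.2.1 ≠ 0 := fun e => by rw [e, Nat.beq_refl] at n2; exact Bool.noConfusion n2
      have m3 : t.2.2 ≠ 0 := fun e => by rw [e, Nat.beq_refl] at n3; exact Bool.noConfusion n3
      have hzne : z ≠ 0 := fun e => by rw [e, Nat.beq_refl] at hz0; exact Bool.noConfusion hz0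
      have hbit : ∀ x, (labMask.getD t.1 0 &&& labMask.getD t.2.1 0 &&& labMask.getD t.2.2 0).testBit x = true ↔
          x = 0 ∨ x = z := fun x => by
        rw [hM, Nat.testBit_or, Bool.or_eq_true, Nat.one_shiftLeft, Nat.testBit_two_pow, decide_eq_true_eq,
          show (1 : ℕ) = 2 ^ 0 from rfl, Nat.testBit_two_pow, decide_eq_true_eq]
        exact or_congr eq_comm eq_comm
      have hin : ∀ {x}, x < 1024 → (P.ph x ∈ P.LW t.1 ⊓ P.LW t.2.1 ⊓ P.LW t.2.2 ↔ x = 0 ∨ x = z) := fun {x} hx => by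
        rw [← hbit, Nat.testBit_and, Nat.testBit_and, Bool.and_eq_true, Bool.and_eq_true, Subgroup.mem_inf,
          Subgroup.mem_inf, P.mem_LW ht1 m1 hx, P.mem_LW ht2 m2 hx, P.mem_LW ht3 m3 hx]
      have hfixW : ∀ {h}, h < 32 → (P.LW h).map (MulAut.conj (n : G)).toMonoidHom = P.LW h := fun {h} hh => by
        obtain ⟨v, rfl⟩ := enc_facts.2 h hh
        exact hfix v
      have hmz := (hin hlt).2 (Or.inr rfl)
      obtain ⟨x, hx, hxe⟩ := P.conj_mem_A0 n.2 (⟨z, hlt, rfl⟩ : P.ph z ∈ P.A0)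
      have hx' : P.ph x ∈ P.LW t.1 ⊓ P.LW t.2.1 ⊓ P.LW t.2.2 := by
        rw [hxe]
        exact ⟨⟨(hfixW ht1).le ⟨_, hmz.1.1, rfl⟩, (hfixW ht2).le ⟨_, hmz.1.2, rfl⟩⟩, (hfixW ht3).le ⟨_, hmz.2, rfl⟩⟩
      rcases (hin hx).1 hx' with e | e
      · exfalso
        rw [e, P.ph_zero] at hxe
        exact hzne (P.ph_inj hlt (by norm_num) ((conj_eq_one_iff.1 hxe.symm).trans P.ph_zero.symm))
      · rw [e] at hxe
        exact mul_inv_eq_iff_eq_mul.1 hxe.symm
    have hlinlt : ∀ c, lin zBase c < 1024 ∧ Commute (n : G) (P.ph (lin zBase c)) := fun c => by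
      have key : ∀ (l : List ℕ) (r : ℕ), r < 1024 → Commute (n : G) (P.ph r) →
          let f := l.foldl (fun r i => r ^^^ cst (c.testBit i) (zBase.getD i 0)) r
          f < 1024 ∧ Commute (n : G) (P.ph f) := by
        intro l
        induction l with
        | nil => intro r h1 h2; exact ⟨h1, h2⟩
        | cons a l ih =>
          intro r h1 h2
          rw [List.foldl_cons]
          rcases Nat.lt_or_ge a 10 with ha | ha
          · cases hy' : c.testBit a
            · exact ih _ (by simpa [cst] using h1) (by simpa [cst] using h2)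
            · have e : r ^^^ cst true (zBase.getD a 0) = r ^^^ zBase.getD a 0 := rfl
              refine ih _ (e ▸ Nat.xor_lt_two_pow (n := 10) h1 (hz a ha).1) ?_
              rw [e, P.ph_xor h1 (hz a ha).1]
              exact h2.mul_right (hz a ha).2
          · have e : r ^^^ cst (c.testBit a) (zBase.getD a 0) = r := by
              have hl : zBase.length = 10 := by decide +kernel
              rw [List.getD_eq_default _ _ (by omega)]
              cases c.testBit a <;> simp [cst]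
            exact ih _ (e.symm ▸ h1) (e.symm ▸ h2)
      exact key (List.range 11) 0 (by norm_num) (by rw [P.ph_zero]; exact Commute.one_right _)
    have hpow : ∀ k < 10, Commute (n : G) (P.ph (1 <<< k)) := fun k hk => by
      rw [← Nat.eq_of_beq_eq_true (List.all_eq_true.1 z_comb k (List.mem_range.2 hk))]
      exact (hlinlt _).2
    have hcz : Subgroup.centralizer ({(n : G)} : Set G) ⊓ P.A0 = P.A0 := by
      refine inf_eq_right.2 ?_
      rintro _ ⟨x, hx, rfl⟩
      rw [Subgroup.mem_centralizer_singleton_iff]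
      have hc : ((List.range 10).all fun n => (List.range (2 ^ n)).all fun z =>
          Nat.beq (z ^^^ 1 <<< n) (z + 2 ^ n)) = true := by decide +kernel
      have key : ∀ m ≤ 10, ∀ y < 2 ^ m, Commute (n : G) (P.ph y) := by
        intro m
        induction m with
        | zero =>
          intro _ y hy
          rw [pow_zero, Nat.lt_one_iff] at hy
          rw [hy, P.ph_zero]
          exact Commute.one_right _
        | succ m ih =>
          intro hm y hy
          by_cases hlt : y < 2 ^ m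
          · exact ih (by omega) y hlt
          · rw [pow_succ] at hy
            have hc' := List.all_eq_true.1 (List.all_eq_true.1 hc m (List.mem_range.2 (by omega))) (y - 2 ^ m)
              (List.mem_range.2 (by omega))
            rw [Nat.beq_eq, Nat.sub_add_cancel (not_lt.1 hlt)] at hc'
            have h10 : 2 ^ m < 1024 := by
              rw [show (1024 : ℕ) = 2 ^ 10 by norm_num]
              exact Nat.pow_lt_pow_right (by norm_num) (by omega)
            rw [← hc', P.ph_xor (by omega) (by rw [Nat.one_shiftLeft]; exact h10)]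
            exact (ih (by omega) _ (by omega)).mul_right (hpow m (by omega))
      exact (key 10 le_rfl x (by norm_num; exact hx)).symm.eq
    rw [← P.isTen_A0.2.2, Subgroup.mem_centralizer_iff]
    intro y hy
    rw [SetLike.mem_coe, ← hcz] at hy
    exact Subgroup.mem_centralizer_singleton_iff.1 hy.1
  · intro h
    have hid : P.lmap n = LinearMap.id := LinearMap.ext fun v => P.pi_eq (by
      refine Subgroup.eq_of_le_of_card_ge ?_
        (le_of_eq (Subgroup.card_map_of_injective (MulAut.conj (n : G)).injective).symm)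
      rintro _ ⟨x, hx, rfl⟩
      show (n : G) * x * (n : G)⁻¹ ∈ P.LV v
      rw [(P.A0_comm h (P.LW_le _ hx)).eq, mul_inv_cancel_right]
      exact hx)
    refine Subtype.ext ?_
    show LinearMap.toMatrix' (P.lmap n) = 1
    rw [hid, LinearMap.toMatrix'_id]

theorem card_SL_five : Nat.card (Matrix.SpecialLinearGroup (Fin 5) (ZMod 2)) = 9999360 := by
  have h := Cfsg.Lib.Linear.card_SL_mul (F := ZMod 2) 5 (by norm_num)
  rw [ZMod.card] at h
  generalize Nat.card (Matrix.SpecialLinearGroup (Fin 5) (ZMod 2)) = c at h ⊢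
  rw [Fin.prod_univ_five] at h
  norm_num at h
  exact h

theorem A0_le_N0 : P.A0 ≤ P.N0 := Subgroup.le_normalizer

theorem toSL_surjective : Function.Surjective P.toSL := by
  rw [← MonoidHom.range_eq_top]
  refine Subgroup.eq_top_of_card_eq _ ?_
  have h := P.toSL.ker.index_mul_card
  rw [Subgroup.index_ker, P.ker_toSL, Nat.card_congr (Subgroup.subgroupOfEquivOfLe P.A0_le_N0).toEquiv, P.card_A0,
    P.card_N0] at h
  rw [card_SL_five]
  exact Nat.eq_of_mul_eq_mul_right (show 0 < 2 ^ 10 by norm_num) (h.trans (by norm_num))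

end TenSetup

end Cfsg.Lib.JankoFourTen
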