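import Cfsg.Agent.Lib.JankoFourTen.TenSplit
import Cfsg.Agent.Lib.JankoFour.Centralizer

/-!
# Self-centralizing groups of order `2¹⁰`: the statements
-/

set_option autoImplicit false
set_option linter.style.haveILetI false
set_option linter.unusedSectionVars false

namespace Cfsg.Lib.JankoFourTen

open Cfsg Cfsg.Lib.JankoFour

universe u

variable {G : Type u} [Group G] [Finite G] {A : Type} [Group A] {I : Subgroup A} {F : Frame G A I}
  {D : HexData A I} {S : Std F D}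

/-- A complement gives the setting. -/
theorem exists_setup (C : Adapted S)
    (hsec : ∀ (ψ : ↥S.NV →* ↥Cfsg.M24), Function.Surjective ψ → ψ.ker = S.Vb.subgroupOf S.NV →
      ∃ σ : ↥Cfsg.M24 →* ↥S.NV, ∀ g, ψ (σ g) = g) : Nonempty (TenSetup S) := by
  obtain ⟨T⟩ := exists_model C
  obtain ⟨σ, hσ⟩ := hsec T.ψ T.surj T.ker
  exact ⟨⟨T, C, σ, hσ, fun _ ht h1 hnc => C.centralizer_le_NV ht h1 hnc⟩⟩

namespace TenSetup

variable (P : TenSetup S)

theorem isTen_iff {B : Subgroup G} : IsTen B ↔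
    Cfsg.IsElementaryAbelian 2 B ∧ Nat.card ↥B = 2 ^ 10 ∧ Subgroup.centralizer (B : Set G) = B := by
  constructor
  · rintro ⟨h1, h2, h3⟩
    exact ⟨⟨⟨⟨fun a b => Subtype.ext (JankoFour.commute_of_sq h1 a.2 b.2).eq⟩⟩,
      fun x hx => by rw [pow_two]; exact h1 x hx⟩, h2, h3⟩
  · rintro ⟨h1, h2, h3⟩
    exact ⟨fun x hx => by have := h1.2 x hx; rwa [pow_two] at this, h2, h3⟩

include P in
theorem exists_conj_A0 {B : Subgroup G} (hB : IsTen B) : ∃ g : G, B.map (MulAut.conj g).toMonoidHom = P.A0 := by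
  obtain ⟨g, hg⟩ := exists_in_NV S hB
  obtain ⟨k, -, hk⟩ := P.norm_form (isTen_map hB g) hg
  rw [conjMap_conjMap] at hk
  exact ⟨_, hk⟩

include P in
theorem conj_all {B B' : Subgroup G} (hB : IsTen B) (hB' : IsTen B') :
    ∃ g : G, B' = B.map (MulAut.conj g).toMonoidHom := by
  obtain ⟨g, hg⟩ := P.exists_conj_A0 hB
  obtain ⟨g', hg'⟩ := P.exists_conj_A0 hB'
  refine ⟨g'⁻¹ * g, ?_⟩
  rw [← conjMap_conjMap, hg, ← hg', conjMap_conjMap, inv_mul_cancel, conjMap_one]

theorem normalizer_conj (g : G) {n : G} :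
    n ∈ Subgroup.normalizer ((P.A0.map (MulAut.conj g).toMonoidHom : Subgroup G) : Set G) ↔ g⁻¹ * n * g ∈ P.N0 := by
  constructor
  · intro h
    refine mem_normalizer_of_map ?_
    have e := map_of_mem_normalizer h
    rw [conjMap_conjMap] at e
    have e2 := congrArg (fun B : Subgroup G => B.map (MulAut.conj g⁻¹).toMonoidHom) e
    rw [conjMap_conjMap, conjMap_conjMap, inv_mul_cancel, conjMap_one, ← mul_assoc] at e2
    exact e2
  · intro h
    refine mem_normalizer_of_map ?_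
    rw [conjMap_conjMap, show n * g = g * (g⁻¹ * n * g) by group, ← conjMap_conjMap, map_of_mem_normalizer h]

include P in
/-- The orbits. -/
theorem orbits {B : Subgroup G} (hB : IsTen B) :
    ∃ a b : G, a ∈ B ∧ b ∈ B ∧
      Set.ncard {v : G | ∃ n ∈ Subgroup.normalizer (B : Set G), n * a * n⁻¹ = v} = 155 ∧
      Set.ncard {v : G | ∃ n ∈ Subgroup.normalizer (B : Set G), n * b * n⁻¹ = v} = 868 := by
  obtain ⟨g, hg⟩ := P.conj_all P.isTen_A0 hB
  subst hg
  obtain ⟨a, b, ha, hb, h1, h2⟩ := P.two_orbits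
  have key : ∀ x : G, {v : G | ∃ n ∈ Subgroup.normalizer ((P.A0.map (MulAut.conj g).toMonoidHom : Subgroup G) : Set G),
      n * (g * x * g⁻¹) * n⁻¹ = v} = (MulAut.conj g) '' {v : G | ∃ n ∈ P.N0, n * x * n⁻¹ = v} := by
    intro x
    ext v
    constructor
    · rintro ⟨n, hn, rfl⟩
      exact ⟨_, ⟨_, (P.normalizer_conj g).1 hn, rfl⟩,
        show g * (g⁻¹ * n * g * x * (g⁻¹ * n * g)⁻¹) * g⁻¹ = n * (g * x * g⁻¹) * n⁻¹ by group⟩
    · rintro ⟨_, ⟨n, hn, rfl⟩, rfl⟩
      refine ⟨g * n * g⁻¹, (P.normalizer_conj g).2 (by rwa [show g⁻¹ * (g * n * g⁻¹) * g = n by group]), ?_⟩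
      show g * n * g⁻¹ * (g * x * g⁻¹) * (g * n * g⁻¹)⁻¹ = g * (n * x * n⁻¹) * g⁻¹
      group
  refine ⟨g * a * g⁻¹, g * b * g⁻¹, ⟨a, ha, rfl⟩, ⟨b, hb, rfl⟩, ?_, ?_⟩
  · rw [key, Set.ncard_image_of_injective _ (MulAut.conj g).injective, h1]
  · rw [key, Set.ncard_image_of_injective _ (MulAut.conj g).injective, h2]

include P in
/-- The structure of the normalizer. -/
theorem structure_of {B : Subgroup G} (hB : IsTen B) :
    (∃ K : Subgroup G, K ≤ Subgroup.normalizer (B : Set G) ∧ K ⊓ B = ⊥ ∧ K ⊔ B = Subgroup.normalizer (B : Set G) ∧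
      Nonempty (↥K ≃* Matrix.SpecialLinearGroup (Fin 5) (ZMod 2))) ∧
    ∀ W : Subgroup G, W ≤ B → Subgroup.normalizer (B : Set G) ≤ Subgroup.normalizer (W : Set G) → W = ⊥ ∨ W = B := by
  obtain ⟨g, hg⟩ := P.conj_all P.isTen_A0 hB
  subst hg
  set c := (MulAut.conj g).toMonoidHom
  have hinj : Function.Injective c := (MulAut.conj g).injective
  have hN : Subgroup.normalizer ((P.A0.map c : Subgroup G) : Set G) = P.N0.map c := by
    ext n
    rw [P.normalizer_conj g, mem_conjMap]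
  obtain ⟨K, hK, hi, hs, ⟨e⟩⟩ := P.exists_complement
  refine ⟨⟨K.map c, ?_, ?_, ?_, ⟨(Subgroup.equivMapOfInjective K c hinj).symm.trans e⟩⟩, fun W hW hn => ?_⟩
  · rw [hN]
    exact Subgroup.map_mono hK
  · rw [← Subgroup.map_inf_eq _ _ _ hinj, hi, Subgroup.map_bot]
  · rw [← Subgroup.map_sup, hs, hN]
  · have hW0 : W.map (MulAut.conj g⁻¹).toMonoidHom ≤ P.A0 := by
      rintro _ ⟨x, hx, rfl⟩
      have := mem_conjMap.1 (hW hx)
      simpa using this
    rcases P.irreducible hW0 (fun n hn' => by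
        refine mem_normalizer_of_map ?_
        have hm := map_of_mem_normalizer (hn ((P.normalizer_conj g (n := g * n * g⁻¹)).2
          (by rwa [show g⁻¹ * (g * n * g⁻¹) * g = n by group])))
        rw [conjMap_conjMap]
        conv_rhs => rw [← hm, conjMap_conjMap]
        rw [show g⁻¹ * (g * n * g⁻¹) = n * g⁻¹ by group]) with h | h
    · left
      exact (Subgroup.map_eq_bot_iff_of_injective _ (MulAut.conj g⁻¹).injective).1 h
    · right
      rw [← h, conjMap_conjMap, mul_inv_cancel, conjMap_one]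

end TenSetup

end Cfsg.Lib.JankoFourTen
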