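import Cfsg.Agent.Lib.JankoFourTen.TenOrbit

/-!
# The order of the normalizer of the group of order `2¹⁰`
-/

set_option autoImplicit false
set_option maxRecDepth 100000
set_option linter.style.haveILetI false
set_option linter.unusedSectionVars false

namespace Cfsg.Lib.JankoFourTen

open Cfsg Cfsg.Lib.Concrete Cfsg.Lib.JankoFour Cfsg.Lib.JankoFour.BitModel
open Cfsg.Lib.FusionSys.MathieuCert (toPerm toPerm_eq)
open scoped Pointwise
open MulAction (stabilizer)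

attribute [local irreducible] toPerm

variable {G : Type*} [Group G] [Finite G] {A : Type} [Group A] {I : Subgroup A} {F : Frame G A I}
  {D : HexData A I}

namespace TenSetup

variable {S : Std F D} (P : TenSetup S)

theorem mem_normalizer_A0 {n : G} (h : ∀ x ∈ P.A0, n * x * n⁻¹ ∈ P.A0) : n ∈ P.N0 := by
  refine mem_normalizer_of_map (Subgroup.eq_of_le_of_card_ge ?_ ?_)
  · rintro _ ⟨x, hx, rfl⟩
    exact h x hx
  · rw [Subgroup.card_map_of_injective (MulAut.conj n).injective]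

theorem sg_mem_NM {g : ↥Cfsg.M24} (hg : ∀ x ∈ octO, (g : Equiv.Perm GolayPt) x ∈ octO) : P.sg g ∈ P.NM := by
  classical
  refine ⟨P.mem_normalizer_A0 ?_, P.sg_mem g⟩
  have hginv : ∀ x ∈ octO, ((g⁻¹ : ↥Cfsg.M24) : Equiv.Perm GolayPt) x ∈ octO := fun x hx => by
    have himg : octO.image (fun a => (g : Equiv.Perm GolayPt) a) = octO := Finset.eq_of_subset_of_card_le
      (Finset.image_subset_iff.2 hg) (by rw [Finset.card_image_of_injective _ (Equiv.injective _)])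
    obtain ⟨y, hy, e⟩ := Finset.mem_image.1 (himg.symm ▸ hx)
    rw [← e]
    show ((g : Equiv.Perm GolayPt)⁻¹) ((g : Equiv.Perm GolayPt) y) ∈ octO
    simpa using hy
  have hr : ∀ i < 16, ∃ j < 16, P.sg g * P.sg (rg i) * (P.sg g)⁻¹ = P.sg (rg j) := by
    intro i hi
    obtain ⟨j, hj, e⟩ := exists_rg (g := g * rg i * g⁻¹) (fun x hx => by
      show (g : Equiv.Perm GolayPt) ((rg i : Equiv.Perm GolayPt) (((g⁻¹ : ↥Cfsg.M24) : Equiv.Perm GolayPt) x)) = x
      rw [(mem_fixSet.1 (rg_fix hi)).2 _ (hginv x hx)]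
      exact (g : Equiv.Perm GolayPt).apply_symm_apply x)
    exact ⟨j, hj, by rw [e, P.sg_mul, P.sg_mul, P.sg_inv]⟩
  have hW : ∀ a < 64, P.sg g * P.ev (wc a) * (P.sg g)⁻¹ ∈ P.A0 := by
    intro a ha
    obtain ⟨v, hv, e⟩ := P.exists_ev (S.conj_mem_Vb (P.sg_mem g) (P.ev_mem (wc a)))
    rw [← e, P.ev_mem_A0 hv, inW_iff hv]
    intro j hj
    obtain ⟨i, hi, ei⟩ : ∃ i < 16, g⁻¹ * rg j * g = rg i := by
      obtain ⟨i, hi, e⟩ := exists_rg (g := g⁻¹ * rg j * g) (fun x hx => by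
        show ((g⁻¹ : ↥Cfsg.M24) : Equiv.Perm GolayPt) ((rg j : Equiv.Perm GolayPt) ((g : Equiv.Perm GolayPt) x)) = x
        rw [(mem_fixSet.1 (rg_fix hj)).2 _ (hg x hx)]
        exact (g : Equiv.Perm GolayPt).symm_apply_apply x)
      exact ⟨i, hi, e.symm⟩
    have hj' : P.sg (rg j) = P.sg g * P.sg (rg i) * (P.sg g)⁻¹ := by
      rw [← ei, P.sg_mul, P.sg_mul, P.sg_inv]
      group
    have hc : Commute (P.sg (rg j)) (P.ev v) := by
      rw [hj', e]
      exact (P.fix_rg ha hi).map (MulAut.conj (P.sg g)).toMonoidHom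
    exact P.ev_inj (lin_lt (actL_lt _) _) hv (mul_right_cancel ((P.sg_ev (rg_rep hj) hv).symm.trans hc.eq))
  rintro _ ⟨x, hx, rfl⟩
  rw [ph, show P.sg g * (P.ev (wc (x % 64)) * P.sg (rg (x / 64))) * (P.sg g)⁻¹ =
    P.sg g * P.ev (wc (x % 64)) * (P.sg g)⁻¹ * (P.sg g * P.sg (rg (x / 64)) * (P.sg g)⁻¹) by group]
  refine mul_mem (hW _ (Nat.mod_lt x (by norm_num))) ?_
  obtain ⟨j, hj, e⟩ := hr (x / 64) (by omega)
  rw [e]
  exact ⟨64 * j, by omega, P.ph_high hj⟩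

theorem ev_conj_rg {u i : ℕ} (hu : u < 2048) (hi : i < 16) :
    P.ev u * P.sg (rg i) * (P.ev u)⁻¹ = P.ev (u ^^^ lin (actL (rk i)) u) * P.sg (rg i) := by
  rw [show (P.ev u)⁻¹ = P.ev u from inv_eq_of_mul_eq_one_right (S.Vb_sq (P.ev_mem u)), P.ev_xor, mul_assoc,
    P.sg_ev (rg_rep hi) hu, mul_assoc]

theorem ev_mem_NM {u : ℕ} (hu : u < 2048) : P.ev u ∈ P.NM ↔ nvMask.testBit u = true := by
  have hiff := beq_iff_eq.1 (List.all_eq_true.1 nv_spec u (List.mem_range.2 hu))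
  rw [hiff, List.all_eq_true]
  have hi : ∀ b < 4, 1 <<< b < 16 := fun b hb => by interval_cases b <;> decide
  have hlt : ∀ i, u ^^^ lin (actL (rk i)) u < 2048 := fun i =>
    Nat.xor_lt_two_pow (n := 11) hu (lin_lt (actL_lt _) _)
  constructor
  · intro h b hb
    rw [List.mem_range] at hb
    have hm := P.conj_mem_A0 h.1 (⟨64 * (1 <<< b), by have := hi b hb; omega, P.ph_high (hi b hb)⟩ :
      P.sg (rg (1 <<< b)) ∈ P.A0)
    rw [P.ev_conj_rg hu (hi b hb)] at hm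
    rw [← P.ev_mem_A0 (hlt _)]
    exact (P.A0.mul_mem_cancel_right ⟨64 * (1 <<< b), by have := hi b hb; omega, P.ph_high (hi b hb)⟩).1 hm
  · intro h
    refine ⟨P.mem_normalizer_A0 ?_, S.Vb_le_NV (P.ev_mem u)⟩
    set Q := P.A0.comap (MulAut.conj (P.ev u)).toMonoidHom
    have hlow : ∀ a < 64, P.ev (wc a) ∈ Q := fun a ha => by
      show P.ev u * P.ev (wc a) * (P.ev u)⁻¹ ∈ P.A0
      rw [(S.Vb_comm (P.ev_mem u) (P.ev_mem _)).eq, mul_inv_cancel_right]
      exact ⟨a, by omega, P.ph_low ha⟩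
    have hgen : ∀ b < 4, P.sg (rg (1 <<< b)) ∈ Q := fun b hb => by
      show P.ev u * P.sg (rg (1 <<< b)) * (P.ev u)⁻¹ ∈ P.A0
      rw [P.ev_conj_rg hu (hi b hb)]
      exact mul_mem ((P.ev_mem_A0 (hlt _)).2 (h b (List.mem_range.2 hb)))
        ⟨64 * (1 <<< b), by have := hi b hb; omega, P.ph_high (hi b hb)⟩
    have hxor : ∀ a b, a < 16 → b < 16 → P.sg (rg a) ∈ Q → P.sg (rg b) ∈ Q → P.sg (rg (a ^^^ b)) ∈ Q :=
      fun a b ha hb h1 h2 => by rw [rg_mul ha hb, P.sg_mul]; exact mul_mem h1 h2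
    have g1 : P.sg (rg 1) ∈ Q := hgen 0 (by norm_num)
    have g2 : P.sg (rg 2) ∈ Q := hgen 1 (by norm_num)
    have g4 : P.sg (rg 4) ∈ Q := hgen 2 (by norm_num)
    have g8 : P.sg (rg 8) ∈ Q := hgen 3 (by norm_num)
    have g0 : P.sg (rg 0) ∈ Q := by rw [rg_zero, P.sg_one]; exact one_mem _
    have g3 : P.sg (rg 3) ∈ Q := hxor 1 2 (by norm_num) (by norm_num) g1 g2
    have g5 : P.sg (rg 5) ∈ Q := hxor 1 4 (by norm_num) (by norm_num) g1 g4
    have g6 : P.sg (rg 6) ∈ Q := hxor 2 4 (by norm_num) (by norm_num) g2 g4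
    have g7 : P.sg (rg 7) ∈ Q := hxor 3 4 (by norm_num) (by norm_num) g3 g4
    have g9 : P.sg (rg 9) ∈ Q := hxor 1 8 (by norm_num) (by norm_num) g1 g8
    have g10 : P.sg (rg 10) ∈ Q := hxor 2 8 (by norm_num) (by norm_num) g2 g8
    have g11 : P.sg (rg 11) ∈ Q := hxor 3 8 (by norm_num) (by norm_num) g3 g8
    have g12 : P.sg (rg 12) ∈ Q := hxor 4 8 (by norm_num) (by norm_num) g4 g8
    have g13 : P.sg (rg 13) ∈ Q := hxor 5 8 (by norm_num) (by norm_num) g5 g8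
    have g14 : P.sg (rg 14) ∈ Q := hxor 6 8 (by norm_num) (by norm_num) g6 g8
    have g15 : P.sg (rg 15) ∈ Q := hxor 7 8 (by norm_num) (by norm_num) g7 g8
    rintro _ ⟨x, hx, rfl⟩
    show P.ev (wc (x % 64)) * P.sg (rg (x / 64)) ∈ Q
    refine mul_mem (hlow _ (Nat.mod_lt x (by norm_num))) ?_
    have hq : x / 64 < 16 := by omega
    generalize x / 64 = i at hq
    interval_cases i <;> assumption

theorem NM_image {n : G} (hn : n ∈ P.NM) :
    ∀ x ∈ octO, (P.T.ψ ⟨n, hn.2⟩ : Equiv.Perm GolayPt) x ∈ octO := by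
  intro x hx
  have h2 : 0 < (octO.erase x).card := by rw [Finset.card_erase_of_mem hx, octO_mem.2]; norm_num
  obtain ⟨y, hy⟩ := Finset.card_pos.1 h2
  rw [Finset.mem_erase] at hy
  have hm := P.conj_mem_A0 hn.1 ((P.ev_mem_A0 (pairC_lt _ _)).2 (pair_inW hx hy.2))
  rw [P.conj_pair hn.2 hy.1.symm, P.ev_mem_A0 (pairC_lt _ _)] at hm
  set p := (P.T.ψ ⟨n, hn.2⟩ : Equiv.Perm GolayPt) x
  set q := (P.T.ψ ⟨n, hn.2⟩ : Equiv.Perm GolayPt) y
  have hc : (bits24.all fun a => bits24.all fun b => Nat.beq a b || !(inW (pairC a b)) ||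
      (octMask.testBit a && octMask.testBit b)) = true := by decide +kernel
  have h := List.all_eq_true.1 (List.all_eq_true.1 hc _ (mem_bits24.2 (gidx p).isLt)) _
    (mem_bits24.2 (gidx q).isLt)
  rw [hm, Bool.not_true, Bool.or_false, Bool.or_eq_true, Bool.and_eq_true] at h
  refine mem_octO.2 (h.resolve_left fun e => ?_).1
  exact hy.1 ((Equiv.injective _ (gidx_injective (Fin.ext (Nat.eq_of_beq_eq_true e)) : p = q)).symm)

theorem card_NM : Nat.card ↥P.NM = 1024 * 322560 := by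
  classical
  let θ : ↥P.NM →* ↥Cfsg.M24 := P.T.ψ.comp (Subgroup.inclusion inf_le_right)
  have hr : θ.range = stabilizer ↥Cfsg.M24 octO := by
    ext g
    constructor
    · rintro ⟨n, rfl⟩
      refine Finset.eq_of_subset_of_card_le (fun y hy => ?_) (le_of_eq (Finset.card_smul_finset _ _).symm)
      obtain ⟨x, hx, rfl⟩ := Finset.mem_image.1 hy
      exact P.NM_image n.2 x hx
    · intro hg
      refine ⟨⟨P.sg g, P.sg_mem_NM fun x hx => (hg ▸ Finset.smul_mem_smul_finset hx :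
        g • x ∈ octO)⟩, ?_⟩
      exact P.sec g
  have hk : Nat.card ↥θ.ker = 1024 := by
    have hmem : ∀ v, nvMask.testBit v = true → v < 2048 := fun v hv => by
      have h : Nat.blt nvMask (2 ^ 2048) = true := by decide +kernel
      by_contra hge
      rw [Nat.testBit_lt_two_pow (lt_of_lt_of_le (Nat.blt_eq.mp h) (Nat.pow_le_pow_right (by norm_num) (by omega)))]
        at hv
      exact Bool.noConfusion hv
    have h1 := nv_count
    rw [Nat.beq_eq, bitSum_eq] at h1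
    rw [← h1, ← Nat.card_eq_finsetCard]
    refine (Nat.card_congr (Equiv.ofBijective (fun v : ↥((Finset.range 2048).filter fun i => nvMask.testBit i) =>
      (⟨⟨P.ev v, (P.ev_mem_NM (hmem _ (Finset.mem_filter.1 v.2).2)).2 (Finset.mem_filter.1 v.2).2⟩, ?_⟩ : ↥θ.ker))
      ⟨fun a b h => Subtype.ext (P.ev_inj (hmem _ (Finset.mem_filter.1 a.2).2) (hmem _ (Finset.mem_filter.1 b.2).2)
        (congrArg (fun y : ↥θ.ker => ((y : ↥P.NM) : G)) h)), ?_⟩)).symm
    · rw [MonoidHom.mem_ker]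
      exact P.psi_ev v
    · rintro ⟨⟨x, hx⟩, hker⟩
      have h2 : (⟨x, hx.2⟩ : ↥S.NV) ∈ P.T.ψ.ker := MonoidHom.mem_ker.1 hker
      rw [P.T.ker, Subgroup.mem_subgroupOf] at h2
      obtain ⟨v, hv, rfl⟩ := P.exists_ev h2
      exact ⟨⟨v, Finset.mem_filter.2 ⟨Finset.mem_range.2 hv, (P.ev_mem_NM hv).1 hx⟩⟩, rfl⟩
  rw [← θ.ker.index_mul_card, Subgroup.index_ker, hr, hk, card_octad_stabilizer octO_mem, mul_comm]

theorem card_N0 : Nat.card ↥P.N0 = 31 * (1024 * 322560) := by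
  have hc : P.N0 ⊓ Subgroup.centralizer ({P.ph 1} : Set G) ≤ P.NM := by
    refine le_inf inf_le_left (inf_le_right.trans (P.cen _ ?_ P.rep_facts.1.2.1 ?_))
    · rw [P.ph_low (show 1 < 64 by norm_num)]
      exact P.ev_mem _
    · exact fun h => Bool.noConfusion (P.rep_facts.1.2.2.1 h)
  have heq : P.N0 ⊓ Subgroup.centralizer ({P.ph 1} : Set G) = P.NM ⊓ Subgroup.centralizer ({P.ph 1} : Set G) :=
    le_antisymm (le_inf hc inf_le_right) (inf_le_inf_right _ inf_le_left)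
  have h := P.ncard_classes.1
  rw [← P.orbit_eq P.rep_facts.1, ncard_conjOrbit,
    ← Subgroup.relIndex_mul_relIndex _ P.NM P.N0 hc inf_le_left] at h
  have hd := List.all_eq_true.1 orb_disjoint 0 (List.mem_range.2 (by norm_num))
  simp only [Bool.and_eq_true, Nat.blt_eq] at hd
  have hb := orb_counts
  simp only [Bool.and_eq_true, Nat.beq_eq] at hb
  have h28 : (P.N0 ⊓ Subgroup.centralizer ({P.ph 1} : Set G)).relIndex P.NM = 28 := by
    rw [heq, ← ncard_conjOrbit, P.orbit_small_NM, P.ncard_image _ hd.1.2, hb.1.1.1]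
  rw [h28] at h
  have h31 : P.NM.relIndex P.N0 = 31 := Nat.eq_of_mul_eq_mul_left (show 0 < 28 by norm_num) (h.trans (by norm_num))
  rw [← (P.NM.subgroupOf P.N0).index_mul_card, ← Subgroup.relIndex, h31,
    Nat.card_congr (Subgroup.subgroupOfEquivOfLe (show P.NM ≤ P.N0 from inf_le_left)).toEquiv, P.card_NM]

end TenSetup

end Cfsg.Lib.JankoFourTen
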