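import Cfsg.Agent.Lib.JankoFourTen.TenClass
import Cfsg.Agent.Lib.JankoFour.Into

/-!
# The two orbits of the normalizer on a group of order `2¹⁰`
-/

set_option autoImplicit false
set_option maxRecDepth 100000
set_option linter.style.haveILetI false
set_option linter.unusedSectionVars false

namespace Cfsg.Lib.JankoFourTen

open Cfsg Cfsg.Lib.Concrete Cfsg.Lib.JankoFour Cfsg.Lib.JankoFour.BitModel
open Cfsg.Lib.FusionSys.MathieuCert (toPerm toPerm_eq)

attribute [local irreducible] toPerm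

variable {G : Type*} [Group G] [Finite G] {A : Type} [Group A] {I : Subgroup A} {F : Frame G A I}
  {D : HexData A I}

/-- The length of an orbit of a subgroup under conjugation. -/
theorem ncard_conjOrbit (K : Subgroup G) (w : G) :
    {v : G | ∃ n ∈ K, n * w * n⁻¹ = v}.ncard = (K ⊓ Subgroup.centralizer ({w} : Set G)).relIndex K := by
  letI : MulAction ↥K G := MulAction.compHom G ((MulAut.conj).comp K.subtype)
  have ho : MulAction.orbit (↥K) w = {v : G | ∃ n ∈ K, n * w * n⁻¹ = v} := by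
    ext v
    exact ⟨fun ⟨n, hn⟩ => ⟨n, n.2, hn⟩, fun ⟨n, hn, h⟩ => ⟨⟨n, hn⟩, h⟩⟩
  have hs : MulAction.stabilizer (↥K) w = (K ⊓ Subgroup.centralizer ({w} : Set G)).subgroupOf K := by
    ext n
    rw [MulAction.mem_stabilizer_iff, Subgroup.mem_subgroupOf]
    show (n : G) * w * (n : G)⁻¹ = w ↔ _
    rw [Subgroup.mem_inf, Subgroup.mem_centralizer_singleton_iff]
    exact ⟨fun h => ⟨n.2, mul_inv_eq_iff_eq_mul.1 h⟩, fun h => mul_inv_eq_iff_eq_mul.2 h.2⟩
  rw [← ho, ← MulAction.index_stabilizer, hs, Subgroup.relIndex]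

namespace TenSetup

variable {S : Std F D} (P : TenSetup S)

/-- The normalizer. -/
def N0 : Subgroup G := Subgroup.normalizer (P.A0 : Set G)

/-- The part of the normalizer in the normalizer of the standard group. -/
def NM : Subgroup G := P.N0 ⊓ S.NV

theorem A0_le_NM : P.A0 ≤ P.NM := le_inf Subgroup.le_normalizer P.A0_le

theorem conj_mem_A0 {n x : G} (hn : n ∈ P.N0) (hx : x ∈ P.A0) : n * x * n⁻¹ ∈ P.A0 :=
  (Subgroup.mem_normalizer_iff.1 hn x).1 hx

/-- The normalizing element of the data. -/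
noncomputable def gel (k : ℕ) : G :=
  if h : k < genL.length then
    P.ev (genL.getD k (0, 0)).1 * P.sg ⟨toPerm (genL.getD k (0, 0)).2, (inMat_spec (by
      have := List.all_eq_true.1 gen_ok _ (List.getElem_mem h)
      rw [Bool.and_eq_true] at this
      rw [List.getD_eq_getElem _ _ h]
      exact this.1)).2⟩
  else 1

theorem gen_facts {k : ℕ} (hk : k < genL.length) :
    inMat (genL.getD k (0, 0)).2 = true ∧ (genL.getD k (0, 0)).1 < 2048 := by
  have h := List.all_eq_true.1 gen_ok _ (List.getElem_mem hk)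
  rw [Bool.and_eq_true, Nat.blt_eq] at h
  rw [List.getD_eq_getElem _ _ hk]
  exact h

theorem step_spec {k a b : ℕ} (hk : k < genL.length) (ha : a < 1024) (hb : b < 1024)
    (h : stepOK (genL.getD k (0, 0)) a b = true) : P.gel k * P.ph a * (P.gel k)⁻¹ = P.ph b := by
  obtain ⟨hm, hu⟩ := gen_facts hk
  set u := (genL.getD k (0, 0)).1
  set p := (genL.getD k (0, 0)).2
  set g : ↥Cfsg.M24 := ⟨toPerm p, (inMat_spec hm).2⟩
  have hgr : Rep (g : Equiv.Perm GolayPt) p := (inMat_spec hm).1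
  rw [stepOK, Bool.and_eq_true, Nat.beq_eq] at h
  have hcomm : g * rg (a / 64) = rg (b / 64) * g := Subtype.ext (Equiv.ext fun x => gidx_injective (Fin.ext (by
    have h1 := List.all_eq_true.1 h.1 _ (mem_bits24.2 (gidx x).isLt)
    rw [Nat.beq_eq] at h1
    show (gidx ((g : Equiv.Perm GolayPt) ((rg (a / 64) : Equiv.Perm GolayPt) x))).val =
      (gidx ((rg (b / 64) : Equiv.Perm GolayPt) ((g : Equiv.Perm GolayPt) x))).val
    rw [hgr, rg_rep (by omega), rg_rep (by omega), hgr]
    exact h1)))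
  have hg : P.gel k = P.ev u * P.sg g := by rw [gel, dif_pos hk]
  rw [mul_inv_eq_iff_eq_mul, hg, ph, ph]
  have hw := (wc_facts (Nat.mod_lt a (show 0 < 64 by norm_num))).2.1
  calc P.ev u * P.sg g * (P.ev (wc (a % 64)) * P.sg (rg (a / 64)))
      = P.ev u * (P.sg g * P.ev (wc (a % 64))) * P.sg (rg (a / 64)) := by group
    _ = P.ev u * (P.ev (lin (actL p) (wc (a % 64))) * P.sg g) * P.sg (rg (a / 64)) := by rw [P.sg_ev hgr hw]
    _ = P.ev u * P.ev (lin (actL p) (wc (a % 64))) * (P.sg (rg (b / 64)) * P.sg g) := by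
        rw [← P.sg_mul, ← hcomm, P.sg_mul]; group
    _ = P.ev (lin (actL p) (wc (a % 64)) ^^^ u) * P.sg (rg (b / 64)) * P.sg g := by
        rw [← P.ev_xor, Nat.xor_comm u]; group
    _ = P.ev (wc (b % 64) ^^^ lin (actL (rk (b / 64))) u) * P.sg (rg (b / 64)) * P.sg g := by
        rw [← h.2]
        congr 3
        simp only [Nat.xor_assoc]
        rw [Nat.xor_comm (lin (actL (rk (b / 64))) u) (u ^^^ _), Nat.xor_assoc, Nat.xor_self, Nat.xor_zero]
    _ = P.ev (wc (b % 64)) * (P.ev (lin (actL (rk (b / 64))) u) * P.sg (rg (b / 64))) * P.sg g := by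
        rw [P.ev_xor]; group
    _ = P.ev (wc (b % 64)) * (P.sg (rg (b / 64)) * P.ev u) * P.sg g := by rw [← P.sg_ev (rg_rep (by omega)) hu]
    _ = P.ev (wc (b % 64)) * P.sg (rg (b / 64)) * (P.ev u * P.sg g) := by group

/-- The data normalize the group. -/
theorem gel_mem {k : ℕ} (hk : k < genL.length) : P.gel k ∈ P.NM := by
  refine ⟨mem_normalizer_of_map (Subgroup.eq_of_le_of_card_ge ?_ ?_), ?_⟩
  · rw [Subgroup.map_le_iff_le_comap]
    rintro _ ⟨x, hx, rfl⟩
    show P.ph x ∈ P.A0.comap _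
    set Q := P.A0.comap (MulAut.conj (P.gel k)).toMonoidHom
    have hbase : ∀ b < 10, P.ph (1 <<< b) ∈ Q := by
      intro b hb
      have h := List.all_eq_true.1 (List.all_eq_true.1 gen_img k (List.mem_range.2 hk)) b (List.mem_range.2 hb)
      rw [Bool.and_eq_true, Nat.blt_eq] at h
      exact ⟨_, h.1, (P.step_spec hk (by interval_cases b <;> decide) h.1 h.2).symm⟩
    have hbits : ∀ n ≤ 10, ∀ y < 2 ^ n, P.ph y ∈ Q := by
      intro n
      induction n with
      | zero =>
        intro _ y hy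
        rw [pow_zero, Nat.lt_one_iff] at hy
        rw [hy, P.ph_zero]
        exact one_mem _
      | succ n ih =>
        intro hn y hy
        by_cases hlt : y < 2 ^ n
        · exact ih (by omega) y hlt
        · have hc : ((List.range 10).all fun n => (List.range (2 ^ n)).all fun z =>
              Nat.beq (z ^^^ 1 <<< n) (z + 2 ^ n)) = true := by decide +kernel
          rw [pow_succ] at hy
          have hc' := List.all_eq_true.1 (List.all_eq_true.1 hc n (List.mem_range.2 (by omega))) (y - 2 ^ n)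
            (List.mem_range.2 (by omega))
          rw [Nat.beq_eq, Nat.sub_add_cancel (not_lt.1 hlt)] at hc'
          have h10 : 2 ^ n < 1024 := by
            rw [show (1024 : ℕ) = 2 ^ 10 by norm_num]
            exact Nat.pow_lt_pow_right (by norm_num) (by omega)
          rw [← hc', P.ph_xor (by omega) (by rw [Nat.one_shiftLeft]; exact h10)]
          exact mul_mem (ih (by omega) _ (by omega)) (hbase n (by omega))
    exact hbits 10 le_rfl x (by norm_num; exact hx)
  · rw [Subgroup.card_map_of_injective (MulAut.conj _).injective]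
  · rw [gel, dif_pos hk]
    exact mul_mem (S.Vb_le_NV (P.ev_mem _)) (P.sg_mem _)

/-- Conjugacy in the part of the normalizer. -/
def Rel (a b : ℕ) : Prop := ∃ n ∈ P.NM, n * P.ph a * n⁻¹ = P.ph b

theorem tree_spec : ∀ (L : List (ℕ × ℕ × ℕ)) (seen fin r : ℕ), treeOK L seen fin = true →
    (∀ y, seen.testBit y = true → P.Rel r y) → ∀ y, fin.testBit y = true → P.Rel r y := by
  intro L
  induction L with
  | nil =>
    intro seen fin r h hs y hy
    rw [treeOK, Nat.beq_eq] at h
    exact hs y (h ▸ hy)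
  | cons e L ih =>
    obtain ⟨b, a, k⟩ := e
    intro seen fin r h hs
    simp only [treeOK, Bool.and_eq_true, Nat.blt_eq] at h
    obtain ⟨⟨⟨⟨⟨hsa, ha⟩, hb⟩, hk⟩, hst⟩, hrest⟩ := h
    refine ih _ fin r hrest fun y hy => ?_
    rw [Nat.testBit_or, Bool.or_eq_true, Nat.one_shiftLeft, Nat.testBit_two_pow, decide_eq_true_eq] at hy
    rcases hy with hy | rfl
    · exact hs y hy
    · obtain ⟨n, hn, e⟩ := hs a hsa
      refine ⟨P.gel k * n, mul_mem (P.gel_mem hk) hn, ?_⟩
      rw [show P.gel k * n * P.ph r * (P.gel k * n)⁻¹ = P.gel k * (n * P.ph r * n⁻¹) * (P.gel k)⁻¹ by group, e]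
      exact P.step_spec hk ha hb hst

theorem orbit_rel {c : ℕ} (hc : c < 4) {y : ℕ} (hy : (orbL.getD c 0).testBit y = true) :
    P.Rel (repL.getD c 0) y := by
  have hs : ∀ r y : ℕ, (1 <<< r).testBit y = true → P.Rel r y := fun r y h => by
    rw [Nat.one_shiftLeft, Nat.testBit_two_pow, decide_eq_true_eq] at h
    exact ⟨1, one_mem _, by rw [h]; group⟩
  interval_cases c
  · exact P.tree_spec _ _ _ _ tree_small (hs _) y hy
  · exact P.tree_spec _ _ _ _ tree_large (hs _) y hy
  · exact P.tree_spec _ _ _ _ tree_third (hs _) y hy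
  · exact P.tree_spec _ _ _ _ tree_fourth (hs _) y hy

theorem orb_lt {c : ℕ} (hc : c < 4) {y : ℕ} (hy : (orbL.getD c 0).testBit y = true) : y < 1024 ∧ y ≠ 0 := by
  have h := List.all_eq_true.1 orb_disjoint c (List.mem_range.2 hc)
  rw [Bool.and_eq_true, Bool.and_eq_true, Nat.blt_eq, Bool.not_eq_true'] at h
  refine ⟨?_, fun e => ?_⟩
  · by_contra hge
    rw [Nat.testBit_lt_two_pow (lt_of_lt_of_le h.1.2 (Nat.pow_le_pow_right (by norm_num) (by omega)))] at hy
    exact Bool.noConfusion hy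
  · rw [e, h.1.1] at hy
    exact Bool.noConfusion hy

theorem orb_disj {c d : ℕ} (hc : c < 4) (hd : d < 4) (hne : c ≠ d) {y : ℕ}
    (hy : (orbL.getD c 0).testBit y = true) : ¬ (orbL.getD d 0).testBit y = true := fun h => by
  have h1 := List.all_eq_true.1 orb_disjoint c (List.mem_range.2 hc)
  rw [Bool.and_eq_true] at h1
  have h2 := List.all_eq_true.1 h1.2 d (List.mem_range.2 hd)
  rw [Bool.or_eq_true, Nat.beq_eq, Nat.beq_eq] at h2
  have h3 := congrArg (fun m => Nat.testBit m y) (h2.resolve_left hne)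
  simp only [Nat.testBit_and, Nat.zero_testBit] at h3
  rw [hy, h] at h3
  exact Bool.noConfusion h3

theorem rel_zcls {a b : ℕ} (h : P.Rel a b) : IsConj F.z (P.ph a) ↔ IsConj F.z (P.ph b) := by
  obtain ⟨n, -, e⟩ := h
  rw [← e, isConj_conj_iff]

theorem orbit_zcls {c : ℕ} (hc : c < 4) {y y' : ℕ} (hy : (orbL.getD c 0).testBit y = true)
    (hy' : (orbL.getD c 0).testBit y' = true) : IsConj F.z (P.ph y) ↔ IsConj F.z (P.ph y') :=
  (P.rel_zcls (P.orbit_rel hc hy)).symm.trans (P.rel_zcls (P.orbit_rel hc hy'))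

theorem low_small {y : ℕ} (hy : y < 64) (hy0 : y ≠ 0) :
    ((orbL.getD 0 0).testBit y = true ↔ ¬ IsConj F.z (P.ph y)) := by
  have h := orb_pairs
  rw [Bool.and_eq_true] at h
  have h1 := beq_iff_eq.1 (List.all_eq_true.1 h.1 y (List.mem_range.2 hy))
  rw [← h1, ← P.ev_dset (wc_facts hy).2.1, P.ph_low hy]
  refine and_iff_right fun e => hy0 ?_
  refine P.ph_inj (by omega) (by norm_num) ?_
  rw [P.ph_low hy, e, P.ph_zero]

theorem low_orbits {y : ℕ} (hy : y < 64) (hy0 : y ≠ 0) :
    (orbL.getD 0 0).testBit y = true ∨ (orbL.getD 1 0).testBit y = true := by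
  have h : ((List.range 64).all fun y => Nat.beq y 0 || (orbL.getD 0 0).testBit y || (orbL.getD 1 0).testBit y) =
      true := by decide +kernel
  have h' := List.all_eq_true.1 h y (List.mem_range.2 hy)
  rw [Bool.or_eq_true, Bool.or_eq_true, Nat.beq_eq] at h'
  exact h'.elim (fun h => h.resolve_left hy0 |> Or.inl) Or.inr

theorem low_of_orbit {c y : ℕ} (hc : c < 2) (hy : (orbL.getD c 0).testBit y = true) : y < 64 := by
  have h := orb_pairs
  rw [Bool.and_eq_true] at h
  have h2 := List.all_eq_true.1 (of_decide_eq_true h.2) y (List.mem_range.2 (orb_lt (show c < 4 by omega) hy).1)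
  rw [Nat.testBit_or] at h2
  interval_cases c <;> rw [hy] at h2 <;>
    simp only [Bool.or_true, Bool.true_or, Bool.not_true, Bool.false_or, Nat.blt_eq] at h2 <;> exact h2

/-- The members of one class in the group. -/
def cls (z : Bool) : Set G := {v | v ∈ P.A0 ∧ v ≠ 1 ∧ (IsConj F.z v ↔ z = true)}

theorem cls_conj {z : Bool} {n v : G} (hn : n ∈ P.N0) (hv : v ∈ P.cls z) : n * v * n⁻¹ ∈ P.cls z :=
  ⟨P.conj_mem_A0 hn hv.1, fun e => hv.2.1 (conj_eq_one_iff.1 e), by rw [isConj_conj_iff]; exact hv.2.2⟩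

theorem Vb_part {v : G} (hv : v ∈ P.A0) (h : v ∈ S.Vb) : ∃ y < 64, P.ph y = v := by
  obtain ⟨x, hx, rfl⟩ := hv
  exact ⟨x, P.low_of_mem_Vb hx h, rfl⟩

/-- Moving a member into the standard group inside the normalizer. -/
theorem toVb {g x : G} (hle : P.A0.map (MulAut.conj g).toMonoidHom ≤ S.NV) (hx : x ∈ P.A0)
    (hv : g * x * g⁻¹ ∈ S.Vb) : ∃ n ∈ P.N0, ∃ y < 64, n * x * n⁻¹ = P.ph y := by
  obtain ⟨k, hk, e⟩ := P.norm_form (isTen_map P.isTen_A0 g) hle
  rw [conjMap_conjMap] at e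
  have hn : k * g ∈ P.N0 := mem_normalizer_of_map e
  obtain ⟨y, hy, hye⟩ := P.Vb_part (P.conj_mem_A0 hn hx) (by
    rw [show k * g * x * (k * g)⁻¹ = k * (g * x * g⁻¹) * k⁻¹ by group]
    exact S.conj_mem_Vb hk hv)
  exact ⟨k * g, hn, y, hy, hye.symm⟩

theorem z_toVb {x : G} (hx : x ∈ P.A0) (hxz : IsConj F.z x) :
    ∃ n ∈ P.N0, ∃ y < 64, n * x * n⁻¹ = P.ph y := by
  obtain ⟨c, hc⟩ := isConj_iff.1 hxz
  obtain ⟨g, hgx⟩ : ∃ g, g * x * g⁻¹ = F.z := ⟨c⁻¹, by rw [← hc]; group⟩
  set B := P.A0.map (MulAut.conj g).toMonoidHom with hB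
  have hBH : B ≤ Subgroup.centralizer ({F.z} : Set G) := by
    rintro _ ⟨y, hy, rfl⟩
    refine F.centralizer_z_iff.2 ?_
    rw [← hgx]
    exact (P.A0_comm hy hx).map (MulAut.conj g).toMonoidHom
  obtain ⟨Q, hBQ, hQH⟩ := F.exists_sylow_two_G hBH (isPGroup_ten (isTen_map P.isTen_A0 g))
  obtain ⟨W, ⟨hWQ, hW2, hWc⟩, huniq⟩ := F.existsUnique_eleven S.six S.hres Q
  have hWb : IsBig W := ⟨fun y hy => by have := hW2.2 y hy; rwa [pow_two] at this, hWc⟩
  obtain ⟨d, hd, hde⟩ := S.conj_eleven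
    (⟨fun y hy => F.centralizer_z_iff.1 (hQH (hWQ hy)), hWb.1, hWc⟩ : F.IsEleven W)
  refine P.toVb (g := d * g) ?_ hx ?_
  · rw [← conjMap_conjMap, ← hB]
    rintro _ ⟨y, hy, rfl⟩
    refine mem_normalizer_of_map ?_
    have hyW : W.map (MulAut.conj y).toMonoidHom = W := S.two_group_unique Q.isPGroup' (isBig_map hWb y) hWb (by
      rintro _ ⟨w, hw, rfl⟩
      exact mul_mem (mul_mem (hBQ hy) (hWQ hw)) (inv_mem (hBQ hy))) hWQ
    calc S.Vb.map (MulAut.conj ((MulAut.conj d).toMonoidHom y)).toMonoidHom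
        = (W.map (MulAut.conj d).toMonoidHom).map (MulAut.conj (d * y * d⁻¹)).toMonoidHom := by rw [hde]; rfl
      _ = (W.map (MulAut.conj y).toMonoidHom).map (MulAut.conj d).toMonoidHom := by
          rw [conjMap_conjMap, conjMap_conjMap, inv_mul_cancel_right]
      _ = S.Vb := by rw [hyW, hde]
  · rw [show d * g * x * (d * g)⁻¹ = d * (g * x * g⁻¹) * d⁻¹ by group, hgx, hd.eq, mul_inv_cancel_right]
    exact S.z_mem

theorem d_toVb {x : G} (hx : x ∈ P.A0) (h1 : x ≠ 1) (hxz : ¬ IsConj F.z x) :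
    ∃ n ∈ P.N0, ∃ y < 64, n * x * n⁻¹ = P.ph y := by
  by_cases hxV : x ∈ S.Vb
  · obtain ⟨y, hy, e⟩ := P.Vb_part hx hxV
    exact ⟨1, one_mem _, y, hy, by rw [e]; group⟩
  have h0 : repL.getD 0 0 = 1 := by decide +kernel
  have ht : (orbL.getD 0 0).testBit 1 = true := by decide +kernel
  have hmem : P.ph 1 ∈ P.A0 := ⟨1, by norm_num, rfl⟩
  obtain ⟨m, hm, hmE, -, -⟩ := P.adapted.into (P.A0_le hx) (P.A0_sq hx) hxV
    (show P.ph 1 ∈ S.Vb by rw [P.ph_low (show 1 < 64 by norm_num)]; exact P.ev_mem _)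
    (fun e => one_ne_zero (P.ph_inj (show 1 < 1024 by norm_num) (by norm_num) (e.trans P.ph_zero.symm)))
    ((P.low_small (by norm_num) one_ne_zero).1 ht) (P.A0_comm hx hmem)
  obtain ⟨d, -, hd⟩ := P.adapted.fused_E hmE (Frame.conj_sq_one (P.A0_sq hx))
  have hgV : d * m * x * (d * m)⁻¹ ∈ S.Vb := by
    rw [show d * m * x * (d * m)⁻¹ = d * (m * x * m⁻¹) * d⁻¹ by group]
    exact S.K_le hd
  refine P.toVb ?_ hx hgV
  rintro _ ⟨y, hy, rfl⟩
  refine P.cen _ hgV (fun e => h1 (conj_eq_one_iff.1 e)) (fun e => hxz (isConj_conj_iff.1 e)) ?_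
  exact Subgroup.mem_centralizer_singleton_iff.2 ((P.A0_comm hy hx).map (MulAut.conj (d * m)).toMonoidHom).eq

/-- One class is one orbit. -/
theorem cls_transitive {z : Bool} {v v' : G} (hv : v ∈ P.cls z) (hv' : v' ∈ P.cls z) :
    ∃ n ∈ P.N0, n * v * n⁻¹ = v' := by
  have key : ∀ {v}, v ∈ P.cls z → ∃ n ∈ P.N0, n * v * n⁻¹ = P.ph (repL.getD (cond z 1 0) 0) := by
    intro v hv
    obtain ⟨n, hn, y, hy, e⟩ : ∃ n ∈ P.N0, ∃ y < 64, n * v * n⁻¹ = P.ph y := by
      by_cases h : IsConj F.z v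
      · exact P.z_toVb hv.1 h
      · exact P.d_toVb hv.1 hv.2.1 h
    have h' : P.ph y ∈ P.cls z := e ▸ P.cls_conj hn hv
    have hy0 : y ≠ 0 := fun h => h'.2.1 (by rw [h, P.ph_zero])
    have hor : (orbL.getD (cond z 1 0) 0).testBit y = true := by
      rcases low_orbits hy hy0 with h | h
      · cases z
        · exact h
        · exact absurd (h'.2.2.2 rfl) ((P.low_small hy hy0).1 h)
      · cases z
        · exfalso
          have hn : ¬ IsConj F.z (P.ph y) := fun e => Bool.noConfusion (h'.2.2.1 e)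
          have h0 := (P.low_small hy hy0).2 hn
          exact orb_disj (by norm_num) (by norm_num) (show 0 ≠ 1 by norm_num) h0 h
        · exact h
    obtain ⟨m, hm, em⟩ := P.orbit_rel (show cond z 1 0 < 4 by cases z <;> decide) hor
    refine ⟨m⁻¹ * n, mul_mem (inv_mem hm.1) hn, ?_⟩
    rw [show m⁻¹ * n * v * (m⁻¹ * n)⁻¹ = m⁻¹ * (n * v * n⁻¹) * m by group, e, ← em]
    group
  obtain ⟨n, hn, e⟩ := key hv
  obtain ⟨n', hn', e'⟩ := key hv'
  refine ⟨n'⁻¹ * n, mul_mem (inv_mem hn') hn, ?_⟩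
  rw [show n'⁻¹ * n * v * (n'⁻¹ * n)⁻¹ = n'⁻¹ * (n * v * n⁻¹) * n' by group, e, ← e']
  group

theorem orbit_eq {z : Bool} {w : G} (hw : w ∈ P.cls z) : {v : G | ∃ n ∈ P.N0, n * w * n⁻¹ = v} = P.cls z :=
  Set.Subset.antisymm (fun _ ⟨_, hn, e⟩ => e ▸ P.cls_conj hn hw) fun _ hv => P.cls_transitive hw hv

theorem rep_facts : P.ph 1 ∈ P.cls false ∧ P.ph 7 ∈ P.cls true := by
  have h1 : (orbL.getD 0 0).testBit 1 = true := by decide +kernel
  have h7 : (orbL.getD 0 0).testBit 7 = false := by decide +kernel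
  have hne : ∀ y, 0 < y → y < 1024 → P.ph y ≠ 1 := fun y hy hy' e =>
    hy.ne' (P.ph_inj hy' (by norm_num) (e.trans P.ph_zero.symm))
  refine ⟨⟨⟨1, by norm_num, rfl⟩, hne 1 (by norm_num) (by norm_num), ?_⟩,
    ⟨⟨7, by norm_num, rfl⟩, hne 7 (by norm_num) (by norm_num), ?_⟩⟩
  · exact ⟨fun e => absurd e ((P.low_small (show 1 < 64 by norm_num) one_ne_zero).1 h1), fun e => Bool.noConfusion e⟩
  · have := (P.low_small (show 7 < 64 by norm_num) (by norm_num)).not.1 (by rw [h7]; decide)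
    simpa using not_not.1 this

theorem orbit_small_NM :
    {v : G | ∃ n ∈ P.NM, n * P.ph 1 * n⁻¹ = v} = P.ph '' {y | (orbL.getD 0 0).testBit y = true} := by
  have h0 : repL.getD 0 0 = 1 := by decide +kernel
  ext v
  constructor
  · rintro ⟨n, hn, rfl⟩
    obtain ⟨ha, h1, hc⟩ := P.cls_conj hn.1 P.rep_facts.1
    obtain ⟨y, hy, e⟩ := P.Vb_part ha (S.conj_mem_Vb hn.2
      (by rw [P.ph_low (show 1 < 64 by norm_num)]; exact P.ev_mem _))
    refine ⟨y, (P.low_small hy fun h => h1 (by rw [← e, h, P.ph_zero])).2 fun h => ?_, e⟩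
    rw [e] at h
    exact Bool.noConfusion (hc.1 h)
  · rintro ⟨y, hy, rfl⟩
    have h := P.orbit_rel (show 0 < 4 by norm_num) hy
    rwa [h0] at h

theorem ncard_image (m : ℕ) (hm : m < 2 ^ 1024) : (P.ph '' {y | m.testBit y = true}).ncard = bitSum 1024 m := by
  have hlt : ∀ {y}, m.testBit y = true → y < 1024 := fun {y} hy => by
    by_contra hge
    rw [Nat.testBit_lt_two_pow (lt_of_lt_of_le hm (Nat.pow_le_pow_right (by norm_num) (by omega)))] at hy
    exact Bool.noConfusion hy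
  have hinj : Set.InjOn P.ph {y | m.testBit y = true} := fun a ha b hb e => P.ph_inj (hlt ha) (hlt hb) e
  rw [Set.ncard_image_of_injOn hinj, bitSum_eq]
  rw [show {y | m.testBit y = true} = ↑((Finset.range 1024).filter fun i => m.testBit i) from ?_,
    Set.ncard_coe_finset]
  ext y
  simp only [Set.mem_ofPred_eq, Finset.coe_filter, Finset.mem_range]
  exact ⟨fun h => ⟨hlt h, h⟩, And.right⟩

/-- The second class is a union of blocks of twenty-eight. -/
theorem dvd_cls : 28 ∣ (P.cls false).ncard := by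
  have hc : P.N0 ⊓ Subgroup.centralizer ({P.ph 1} : Set G) ≤ P.NM := by
    refine le_inf inf_le_left (inf_le_right.trans (P.cen _ ?_ P.rep_facts.1.2.1 ?_))
    · rw [P.ph_low (show 1 < 64 by norm_num)]
      exact P.ev_mem _
    · exact fun h => Bool.noConfusion (P.rep_facts.1.2.2.1 h)
  have heq : P.N0 ⊓ Subgroup.centralizer ({P.ph 1} : Set G) = P.NM ⊓ Subgroup.centralizer ({P.ph 1} : Set G) :=
    le_antisymm (le_inf hc inf_le_right) (inf_le_inf_right _ inf_le_left)
  rw [← P.orbit_eq P.rep_facts.1, ncard_conjOrbit,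
    ← Subgroup.relIndex_mul_relIndex _ P.NM P.N0 hc inf_le_left]
  refine dvd_mul_of_dvd_left (dvd_of_eq ?_) _
  have hb := orb_counts
  have hd := List.all_eq_true.1 orb_disjoint 0 (List.mem_range.2 (by norm_num))
  simp only [Bool.and_eq_true, Nat.blt_eq] at hd
  simp only [Bool.and_eq_true, Nat.beq_eq] at hb
  rw [heq, ← ncard_conjOrbit, P.orbit_small_NM, P.ncard_image _ hd.1.2, hb.1.1.1]

/-- The classes in the group. -/
theorem classes : P.cls false = P.ph '' {y | ((orbL.getD 0 0) ||| (orbL.getD 3 0)).testBit y = true} ∧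
    P.cls true = P.ph '' {y | ((orbL.getD 1 0) ||| (orbL.getD 2 0)).testBit y = true} := by
  have r2 : (orbL.getD 2 0).testBit 64 = true := by decide +kernel
  have r3 : (orbL.getD 3 0).testBit 65 = true := by decide +kernel
  have r1 : (orbL.getD 1 0).testBit 7 = true := by decide +kernel
  have r0 : (orbL.getD 0 0).testBit 1 = true := by decide +kernel
  obtain ⟨f0, f1⟩ := P.rep_facts
  have hout : ∀ z c y, 2 ≤ c → c < 4 → (orbL.getD c 0).testBit y = true → P.ph y ∈ P.cls z →
      (∀ {t : ℕ}, 0 < t → t < 64 → P.ph t ∈ P.cls z → ∀ n ∈ P.N0, n * P.ph t * n⁻¹ ∈ S.Vb) → False := by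
    intro z c y hc hc' hy hmem hb
    obtain ⟨hy1, -⟩ := orb_lt hc' hy
    obtain ⟨n, hn, t, ht, e⟩ : ∃ n ∈ P.N0, ∃ t < 64, n * P.ph y * n⁻¹ = P.ph t := by
      by_cases h : IsConj F.z (P.ph y)
      · exact P.z_toVb hmem.1 h
      · exact P.d_toVb hmem.1 hmem.2.1 h
    have ht' : P.ph t ∈ P.cls z := e ▸ P.cls_conj hn hmem
    have hlow := P.low_of_mem_Vb hy1 (by
      have h := hb (Nat.pos_of_ne_zero fun h => ht'.2.1 (by rw [h, P.ph_zero])) ht ht' n⁻¹ (inv_mem hn)
      rwa [← e, show n⁻¹ * (n * P.ph y * n⁻¹) * n⁻¹⁻¹ = P.ph y by group] at h)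
    rcases low_orbits hlow (orb_lt hc' hy).2 with h | h
    · exact orb_disj hc' (by norm_num) (show c ≠ 0 by omega) hy h
    · exact orb_disj hc' (by norm_num) (show c ≠ 1 by omega) hy h
  have split : ∀ (a b c d : ℕ) (z : Bool),
      ((List.range 1024).all fun y => Nat.beq y 0 || ((orbL.getD a 0) ||| (orbL.getD b 0)).testBit y ||
        ((orbL.getD c 0) ||| (orbL.getD d 0)).testBit y) = true → a < 4 → b < 4 → c < 4 → d < 4 →
      (∀ y, (orbL.getD a 0).testBit y = true → P.ph y ∈ P.cls z) →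
      (∀ y, (orbL.getD b 0).testBit y = true → P.ph y ∈ P.cls z) →
      (∀ y, (orbL.getD c 0).testBit y = true → P.ph y ∉ P.cls z) →
      (∀ y, (orbL.getD d 0).testBit y = true → P.ph y ∉ P.cls z) →
      P.cls z = P.ph '' {y | ((orbL.getD a 0) ||| (orbL.getD b 0)).testBit y = true} := by
    intro a b c d z hcov ha hb hc hd h1 h2 h3 h4
    ext v
    constructor
    · intro hv
      obtain ⟨y, hy, rfl⟩ := hv.1
      refine ⟨y, ?_, rfl⟩
      have h := List.all_eq_true.1 hcov y (List.mem_range.2 hy)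
      rw [Bool.or_eq_true, Bool.or_eq_true, Nat.beq_eq] at h
      rcases h with (h | h) | h
      · exact absurd (by rw [h, P.ph_zero]) hv.2.1
      · exact h
      · rw [Nat.testBit_or, Bool.or_eq_true] at h
        exact absurd hv (h.elim (h3 y) (h4 y))
    · rintro ⟨y, hy, rfl⟩
      simp only [Set.mem_ofPred_eq, Nat.testBit_or, Bool.or_eq_true] at hy
      exact hy.elim (h1 y) (h2 y)
  have hin : ∀ {c y}, c < 4 → (orbL.getD c 0).testBit y = true → ∀ z, (P.ph y ∈ P.cls z ↔
      (IsConj F.z (P.ph y) ↔ z = true)) := fun {c y} hc hy z => by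
    obtain ⟨h1, h2⟩ := orb_lt hc hy
    exact ⟨fun h => h.2.2, fun h => ⟨⟨y, h1, rfl⟩, fun e => h2 (P.ph_inj h1 (by norm_num) (e.trans P.ph_zero.symm)), h⟩⟩
  have inF : ∀ {c y}, c < 4 → (orbL.getD c 0).testBit y = true → ¬ IsConj F.z (P.ph y) → P.ph y ∈ P.cls false :=
    fun {c y} hc hy h => (hin hc hy false).2 ⟨fun e => absurd e h, fun e => Bool.noConfusion e⟩
  have inT : ∀ {c y}, c < 4 → (orbL.getD c 0).testBit y = true → IsConj F.z (P.ph y) → P.ph y ∈ P.cls true :=
    fun {c y} hc hy h => (hin hc hy true).2 ⟨fun _ => rfl, fun _ => h⟩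
  have n1 : ¬ IsConj F.z (P.ph 1) := (P.low_small (show 1 < 64 by norm_num) one_ne_zero).1 r0
  -- the second class meets the new orbits in exactly the last one
  by_cases k2 : IsConj F.z (P.ph 64) <;> by_cases k3 : IsConj F.z (P.ph 65)
  · exfalso
    -- the small class would lie in the standard group
    have hsm : ∀ {v}, v ∈ P.cls false → v ∈ S.Vb := fun {v} hv => by
      obtain ⟨y, hy, rfl⟩ := hv.1
      have h := List.all_eq_true.1 orb_cover y (List.mem_range.2 hy)
      rw [Bool.or_eq_true, Nat.beq_eq] at h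
      obtain ⟨c, hc, hcy⟩ := List.any_eq_true.1 (h.resolve_left fun h => hv.2.1 (by rw [h, P.ph_zero]))
      rw [List.mem_range] at hc
      have hn : ¬ IsConj F.z (P.ph y) := fun e => Bool.noConfusion (hv.2.2.1 e)
      interval_cases c
      · rw [P.ph_low (low_of_orbit (by norm_num) hcy)]; exact P.ev_mem _
      · rw [P.ph_low (low_of_orbit (by norm_num) hcy)]; exact P.ev_mem _
      · exact absurd ((P.orbit_zcls hc r2 hcy).1 k2) hn
      · exact absurd ((P.orbit_zcls hc r3 hcy).1 k3) hn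
    refine hout true 2 64 (le_refl 2) (by norm_num) r2 (inT (by norm_num) r2 k2) ?_
    intro t ht0 ht htc n hn
    have ht' : ¬ (orbL.getD 0 0).testBit t = true := fun h =>
      (P.low_small ht ht0.ne').1 h (htc.2.2.2 rfl)
    obtain ⟨a, -, ha⟩ := List.any_eq_true.1 (List.all_eq_true.1 small_gen t (List.mem_range.2 ht))
    simp only [Bool.and_eq_true, Bool.or_eq_true, Nat.beq_eq] at ha
    have h1 := ha.1.resolve_left ht0.ne'
    have h2 : (orbL.getD 0 0).testBit (t ^^^ a) = true := by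
      rcases ha.2 with (h | h) | h
      · exact absurd h ht'
      · exact absurd h ht0.ne'
      · exact h
    have ha64 := low_of_orbit (by norm_num) h1
    have hta := low_of_orbit (by norm_num) h2
    rw [show t = (t ^^^ a) ^^^ a by rw [Nat.xor_assoc, Nat.xor_self, Nat.xor_zero],
      P.ph_xor (show t ^^^ a < 1024 by omega) (by omega),
      show n * (P.ph (t ^^^ a) * P.ph a) * n⁻¹ = n * P.ph (t ^^^ a) * n⁻¹ * (n * P.ph a * n⁻¹) by group]
    exact mul_mem
      (hsm (P.cls_conj hn (inF (show 0 < 4 by norm_num) h2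
        ((P.low_small hta (orb_lt (show 0 < 4 by norm_num) h2).2).1 h2))))
      (hsm (P.cls_conj hn (inF (show 0 < 4 by norm_num) h1
        ((P.low_small ha64 (orb_lt (show 0 < 4 by norm_num) h1).2).1 h1))))
  · exact ⟨split 0 3 1 2 false (by decide +kernel) (by norm_num) (by norm_num) (by norm_num) (by norm_num)
      (fun y h => (inF (show 0 < 4 by norm_num) h fun e => n1 ((P.orbit_zcls (show 0 < 4 by norm_num) h r0).1 e)))
      (fun y h => (inF (show 3 < 4 by norm_num) h fun e => k3 ((P.orbit_zcls (show 3 < 4 by norm_num) h r3).1 e)))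
      (fun y h h' => by
        have := (P.orbit_zcls (show 1 < 4 by norm_num) h r1).2 (f1.2.2.2 rfl)
        exact Bool.noConfusion (h'.2.2.1 this))
      (fun y h h' => by
        exact Bool.noConfusion (h'.2.2.1 ((P.orbit_zcls (show 2 < 4 by norm_num) h r2).2 k2))),
      split 1 2 0 3 true (by decide +kernel) (by norm_num) (by norm_num) (by norm_num) (by norm_num)
      (fun y h => inT (show 1 < 4 by norm_num) h ((P.orbit_zcls (show 1 < 4 by norm_num) h r1).2 (f1.2.2.2 rfl)))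
      (fun y h => inT (show 2 < 4 by norm_num) h ((P.orbit_zcls (show 2 < 4 by norm_num) h r2).2 k2))
      (fun y h h' => (P.low_small (show 1 < 64 by norm_num) one_ne_zero).1 r0
        ((P.orbit_zcls (show 0 < 4 by norm_num) h r0).1 (h'.2.2.2 rfl)))
      (fun y h h' => k3 ((P.orbit_zcls (show 3 < 4 by norm_num) h r3).1 (h'.2.2.2 rfl)))⟩
  · exfalso
    have e := split 0 2 1 3 false (by decide +kernel) (by norm_num) (by norm_num) (by norm_num) (by norm_num)
      (fun y h => (inF (show 0 < 4 by norm_num) h fun e => n1 ((P.orbit_zcls (show 0 < 4 by norm_num) h r0).1 e)))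
      (fun y h => (inF (show 2 < 4 by norm_num) h fun e => k2 ((P.orbit_zcls (show 2 < 4 by norm_num) h r2).1 e)))
      (fun y h h' => Bool.noConfusion (h'.2.2.1 ((P.orbit_zcls (show 1 < 4 by norm_num) h r1).2 (f1.2.2.2 rfl))))
      (fun y h h' => Bool.noConfusion (h'.2.2.1 ((P.orbit_zcls (show 3 < 4 by norm_num) h r3).2 k3)))
    have h28 := P.dvd_cls
    rw [e, P.ncard_image _ (Nat.or_lt_two_pow (by decide +kernel) (by decide +kernel)),
      show bitSum 1024 (orbL.getD 0 0 ||| orbL.getD 2 0) = 148 by decide +kernel] at h28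
    norm_num at h28
  · exfalso
    have hall : ∀ y, y < 1024 → ((orbL.getD 0 0 ||| orbL.getD 2 0) ||| orbL.getD 3 0).testBit y = true →
        P.ph y ∈ P.cls false := by
      intro y _ h
      rw [Nat.testBit_or, Nat.testBit_or, Bool.or_eq_true, Bool.or_eq_true] at h
      rcases h with (h | h) | h
      · exact (inF (show 0 < 4 by norm_num) h fun e => n1 ((P.orbit_zcls (show 0 < 4 by norm_num) h r0).1 e))
      · exact (inF (show 2 < 4 by norm_num) h fun e => k2 ((P.orbit_zcls (show 2 < 4 by norm_num) h r2).1 e))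
      · exact (inF (show 3 < 4 by norm_num) h fun e => k3 ((P.orbit_zcls (show 3 < 4 by norm_num) h r3).1 e))
    have e : P.cls false = P.ph '' {y | ((orbL.getD 0 0 ||| orbL.getD 2 0) ||| orbL.getD 3 0).testBit y = true} := by
      ext v
      constructor
      · intro hv
        obtain ⟨y, hy, rfl⟩ := hv.1
        refine ⟨y, ?_, rfl⟩
        have h := List.all_eq_true.1 orb_cover y (List.mem_range.2 hy)
        rw [Bool.or_eq_true, Nat.beq_eq] at h
        obtain ⟨c, hc, hcy⟩ := List.any_eq_true.1 (h.resolve_left fun h => hv.2.1 (by rw [h, P.ph_zero]))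
        rw [List.mem_range] at hc
        simp only [Set.mem_ofPred_eq, Nat.testBit_or, Bool.or_eq_true]
        interval_cases c
        · exact Or.inl (Or.inl hcy)
        · exact absurd ((P.orbit_zcls hc r1 hcy).1 (f1.2.2.2 rfl)) fun e => Bool.noConfusion (hv.2.2.1 e)
        · exact Or.inl (Or.inr hcy)
        · exact Or.inr hcy
      · rintro ⟨y, hy, rfl⟩
        simp only [Set.mem_ofPred_eq] at hy
        refine hall y ?_ hy
        rw [Nat.testBit_or, Nat.testBit_or, Bool.or_eq_true, Bool.or_eq_true] at hy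
        rcases hy with (h | h) | h
        exacts [(orb_lt (by norm_num) h).1, (orb_lt (by norm_num) h).1, (orb_lt (by norm_num) h).1]
    have h28 := P.dvd_cls
    rw [e, P.ncard_image _ (Nat.or_lt_two_pow (Nat.or_lt_two_pow (by decide +kernel) (by decide +kernel))
        (by decide +kernel)),
      show bitSum 1024 ((orbL.getD 0 0 ||| orbL.getD 2 0) ||| orbL.getD 3 0) = 988 by decide +kernel] at h28
    norm_num at h28

theorem ncard_classes : (P.cls false).ncard = 868 ∧ (P.cls true).ncard = 155 := by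
  obtain ⟨h1, h2⟩ := P.classes
  refine ⟨?_, ?_⟩
  · rw [h1, P.ncard_image _ (Nat.or_lt_two_pow (by decide +kernel) (by decide +kernel))]
    decide +kernel
  · rw [h2, P.ncard_image _ (Nat.or_lt_two_pow (by decide +kernel) (by decide +kernel))]
    decide +kernel

/-- The two orbits. -/
theorem two_orbits : ∃ a b : G, a ∈ P.A0 ∧ b ∈ P.A0 ∧
    {v : G | ∃ n ∈ P.N0, n * a * n⁻¹ = v}.ncard = 155 ∧ {v : G | ∃ n ∈ P.N0, n * b * n⁻¹ = v}.ncard = 868 :=
  ⟨_, _, P.rep_facts.2.1, P.rep_facts.1.1, by rw [P.orbit_eq P.rep_facts.2]; exact P.ncard_classes.2,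
    by rw [P.orbit_eq P.rep_facts.1]; exact P.ncard_classes.1⟩

end TenSetup

end Cfsg.Lib.JankoFourTen
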