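import Cfsg.Agent.Lib.JankoFourTen.TenLabel
import Cfsg.Agent.Lib.Solv.GaschutzAbelian

/-!
# The normalizer splits and acts irreducibly
-/

set_option autoImplicit false
set_option maxRecDepth 100000
set_option linter.style.haveILetI false
set_option linter.unusedSectionVars false

namespace Cfsg.Lib.JankoFourTen

open Cfsg Cfsg.Lib.Concrete Cfsg.Lib.JankoFour Cfsg.Lib.JankoFour.BitModel
open Cfsg.Lib.FusionSys.MathieuCert (toPerm toPerm_eq)
open scoped Pointwise

attribute [local irreducible] toPerm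

variable {G : Type*} [Group G] [Finite G] {A : Type} [Group A] {I : Subgroup A} {F : Frame G A I}
  {D : HexData A I}

/-- The elements of the rest of the complement. -/
noncomputable def lp (l : ℕ) : ↥Cfsg.M24 :=
  if h : inMat (cmpL.getD l 0) = true then ⟨toPerm (cmpL.getD l 0), (inMat_spec h).2⟩ else 1

theorem lp_facts {l : ℕ} (hl : l < 64) : Rep (lp l : Equiv.Perm GolayPt) (cmpL.getD l 0) ∧
    (∀ x ∈ octO, (lp l : Equiv.Perm GolayPt) x ∈ octO) ∧
    ((∀ x ∈ octO, (lp l : Equiv.Perm GolayPt) x = x) → l = 0) ∧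
    ∀ m < 64, ∃ n < 64, lp n = lp l * lp m := by
  have hh : ∀ l < 64, Rep (lp l : Equiv.Perm GolayPt) (cmpL.getD l 0) := fun l hl => by
    have h := List.all_eq_true.1 cmp_perm l (List.mem_range.2 hl)
    simp only [Bool.and_eq_true] at h
    rw [lp, dif_pos h.1.1.1]
    exact (inMat_spec h.1.1.1).1
  have h := List.all_eq_true.1 cmp_perm l (List.mem_range.2 hl)
  simp only [Bool.and_eq_true] at h
  refine ⟨hh l hl, fun x hx => mem_octO.2 ?_, fun hfix => ?_, fun m hm => ?_⟩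
  · have h1 := List.all_eq_true.1 h.1.1.2 _ (mem_bits24.2 (gidx x).isLt)
    rw [mem_octO.1 hx, Bool.not_true, Bool.false_or] at h1
    rw [hh l hl x]
    exact h1
  · have h1 := h.1.2
    rw [Bool.or_eq_true, Nat.beq_eq] at h1
    refine h1.resolve_right fun hn => ?_
    obtain ⟨i, hi, hi'⟩ := List.any_eq_true.1 hn
    rw [Bool.and_eq_true, Bool.not_eq_true', ← Bool.not_eq_true, Nat.beq_eq] at hi'
    have hx : gpt ⟨i, mem_bits24.1 hi⟩ ∈ octO := mem_octO.2 (by rw [gidx_gpt]; exact hi'.1)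
    have := (hh l hl).apply ⟨i, mem_bits24.1 hi⟩
    rw [hfix _ hx, gidx_gpt] at this
    exact hi'.2 this.symm
  · have h1 := List.all_eq_true.1 h.2 m (List.mem_range.2 hm)
    rw [Bool.and_eq_true, Nat.blt_eq] at h1
    exact ⟨_, h1.1, Subtype.ext ((hh _ h1.1).ext ((hh l hl).mul (hh m hm) h1.2))⟩

theorem lp_zero : lp 0 = 1 := by
  have h := cmp_zero
  simp only [Bool.and_eq_true, Nat.beq_eq] at h
  refine Subtype.ext ((lp_facts (show 0 < 64 by norm_num)).1.ext ?_)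
  rw [of_decide_eq_true h.2]
  exact rep_one

/-- The coordinates of the elementary part. -/
def tv (a : ℕ) : ℕ := cmpV.getD a 0

/-- The permutation index of the elementary part. -/
def tr (a : ℕ) : ℕ := cmpR.getD a 0

theorem tab_facts {a : ℕ} (ha : a < 16) : tv a < 2048 ∧ tr a < 16 ∧ nvMask.testBit (tv a) = true ∧
    (inW (tv a) = true → a = 0) ∧
    ∀ b < 16, tr (a ^^^ b) = tr a ^^^ tr b ∧ tv (a ^^^ b) = tv a ^^^ lin (actL (rk (tr a))) (tv b) := by
  have h := List.all_eq_true.1 cmp_tables a (List.mem_range.2 ha)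
  simp only [Bool.and_eq_true, Bool.or_eq_true, Bool.not_eq_true', Nat.blt_eq, Nat.beq_eq, List.all_eq_true,
    List.mem_range] at h
  refine ⟨h.1.1.1.1, h.1.1.1.2, h.1.1.2, fun hw => h.1.2.resolve_right fun e => ?_, h.2⟩
  rw [show inW (cmpV.getD a 0) = true from hw] at e
  exact Bool.noConfusion e

namespace TenSetup

variable {S : Std F D} (P : TenSetup S)

/-- The elementary part of the complement. -/
noncomputable def tt (a : ℕ) : G := P.ev (tv a) * P.sg (rg (tr a))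

theorem tt_xor {a b : ℕ} (ha : a < 16) (hb : b < 16) : P.tt (a ^^^ b) = P.tt a * P.tt b := by
  obtain ⟨-, h2, -, -, h5⟩ := tab_facts ha
  rw [tt, tt, tt, (h5 b hb).1, (h5 b hb).2, P.ev_xor, rg_mul h2 (tab_facts hb).2.1, P.sg_mul,
    mul_assoc (P.ev (tv a)) (P.sg _), ← mul_assoc (P.sg (rg (tr a))) (P.ev _),
    P.sg_ev (rg_rep h2) (tab_facts hb).1]
  group

theorem tt_zero : P.tt 0 = 1 := by
  have h := cmp_zero
  simp only [Bool.and_eq_true, Nat.beq_eq] at h
  rw [tt, show tv 0 = 0 from h.1.1, show tr 0 = 0 from h.1.2, P.ev_zero, rg_zero, P.sg_one, one_mul]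

theorem lp_tt {l a : ℕ} (hl : l < 64) (ha : a < 16) :
    ∃ b < 16, P.sg (lp l) * P.tt a = P.tt b * P.sg (lp l) := by
  obtain ⟨b, hb, h⟩ := List.any_eq_true.1 (List.all_eq_true.1 (List.all_eq_true.1 cmp_conj l (List.mem_range.2 hl))
    a (List.mem_range.2 ha))
  rw [List.mem_range] at hb
  rw [Bool.and_eq_true, Nat.beq_eq] at h
  have hr := (lp_facts hl).1
  have h2 := (tab_facts ha).2.1
  have h2' := (tab_facts hb).2.1
  have e : lp l * rg (tr a) = rg (tr b) * lp l := Subtype.ext (Equiv.ext fun x => gidx_injective (Fin.ext (by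
    have h1 := List.all_eq_true.1 h.2 _ (mem_bits24.2 (gidx x).isLt)
    rw [Nat.beq_eq] at h1
    show (gidx ((lp l : Equiv.Perm GolayPt) ((rg (tr a) : Equiv.Perm GolayPt) x))).val =
      (gidx ((rg (tr b) : Equiv.Perm GolayPt) ((lp l : Equiv.Perm GolayPt) x))).val
    rw [hr, rg_rep h2, rg_rep h2', hr]
    exact h1)))
  refine ⟨b, hb, ?_⟩
  rw [tt, tt, ← mul_assoc, P.sg_ev hr (tab_facts ha).1, show lin (actL (cmpL.getD l 0)) (tv a) = tv b from h.1,
    mul_assoc, ← P.sg_mul, e, P.sg_mul, mul_assoc]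

theorem tt_lp_mul {a l b m : ℕ} (ha : a < 16) (hl : l < 64) (hb : b < 16) (hm : m < 64) :
    ∃ c < 16, ∃ n < 64, P.tt a * P.sg (lp l) * (P.tt b * P.sg (lp m)) = P.tt c * P.sg (lp n) := by
  obtain ⟨c, hc, e⟩ := P.lp_tt hl hb
  obtain ⟨n, hn, e'⟩ := (lp_facts hl).2.2.2 m hm
  refine ⟨a ^^^ c, Nat.xor_lt_two_pow (n := 4) ha hc, n, hn, ?_⟩
  rw [P.tt_xor ha hc, e', P.sg_mul, mul_assoc (P.tt a), ← mul_assoc (P.sg (lp l)), e]
  group

/-- The complement in a Sylow 2-subgroup. -/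
noncomputable def Cp : Subgroup G where
  carrier := {g | ∃ a < 16, ∃ l < 64, P.tt a * P.sg (lp l) = g}
  one_mem' := ⟨0, by norm_num, 0, by norm_num, by rw [P.tt_zero, lp_zero, P.sg_one, one_mul]⟩
  mul_mem' := by
    rintro _ _ ⟨a, ha, l, hl, rfl⟩ ⟨b, hb, m, hm, rfl⟩
    obtain ⟨c, hc, n, hn, e⟩ := P.tt_lp_mul ha hl hb hm
    exact ⟨c, hc, n, hn, e.symm⟩
  inv_mem' := by
    rintro g hg
    have hpow : ∀ k : ℕ, ∃ a < 16, ∃ l < 64, P.tt a * P.sg (lp l) = g ^ k := by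
      intro k
      induction k with
      | zero => exact ⟨0, by norm_num, 0, by norm_num, by rw [P.tt_zero, lp_zero, P.sg_one, one_mul, pow_zero]⟩
      | succ k ih =>
        obtain ⟨a, ha, l, hl, e⟩ := ih
        obtain ⟨b, hb, m, hm, e'⟩ := hg
        obtain ⟨c, hc, n, hn, e2⟩ := P.tt_lp_mul ha hl hb hm
        exact ⟨c, hc, n, hn, by rw [← e2, e, e', pow_succ]⟩
    obtain ⟨a, ha, l, hl, e⟩ := hpow (orderOf g - 1)
    refine ⟨a, ha, l, hl, e.trans ?_⟩
    refine eq_inv_of_mul_eq_one_left ?_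
    rw [← pow_succ, Nat.sub_add_cancel (orderOf_pos g), pow_orderOf_eq_one]

theorem mem_A0_iff {a l : ℕ} (ha : a < 16) (hl : l < 64) : P.tt a * P.sg (lp l) ∈ P.A0 ↔ a = 0 ∧ l = 0 := by
  obtain ⟨h1, h2, -, h4, -⟩ := tab_facts ha
  constructor
  · rintro ⟨x, hx, e⟩
    have e2 : P.ev (wc (x % 64)) * P.sg (rg (x / 64)) = P.ev (tv a) * P.sg (rg (tr a) * lp l) := by
      rw [P.sg_mul, ← mul_assoc]
      exact e
    obtain ⟨e3, e4⟩ := P.decomp_unique (wc_facts (Nat.mod_lt x (by norm_num))).2.1 h1 e2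
    have ha0 : a = 0 := h4 (e3 ▸ (wc_facts (Nat.mod_lt x (by norm_num))).1)
    refine ⟨ha0, (lp_facts hl).2.2.1 fun y hy => ?_⟩
    have hl' : lp l = (rg (tr a))⁻¹ * rg (x / 64) := by rw [e4, inv_mul_cancel_left]
    have h5 : (lp l : Equiv.Perm GolayPt) ∈ fixSet octO := by
      rw [hl']
      exact mul_mem (inv_mem (rg_fix h2)) (rg_fix (by omega))
    exact (mem_fixSet.1 h5).2 y hy
  · rintro ⟨rfl, rfl⟩
    rw [P.tt_zero, lp_zero, P.sg_one, one_mul]
    exact one_mem _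

theorem Cp_le : P.Cp ≤ P.NM := by
  rintro _ ⟨a, ha, l, hl, rfl⟩
  obtain ⟨h1, h2, h3, -, -⟩ := tab_facts ha
  exact mul_mem (mul_mem ((P.ev_mem_NM h1).2 h3) (P.A0_le_NM ⟨64 * tr a, by omega, P.ph_high h2⟩))
    (P.sg_mem_NM (lp_facts hl).2.1)

theorem card_Cp : Nat.card ↥P.Cp = 1024 := by
  have hb : Function.Bijective (fun q : Fin 16 × Fin 64 =>
      (⟨P.tt q.1 * P.sg (lp q.2), q.1, q.1.isLt, q.2, q.2.isLt, rfl⟩ : ↥P.Cp)) := by
    refine ⟨?_, fun g => ?_⟩
    · rintro ⟨a, l⟩ ⟨b, m⟩ e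
      have e' : P.tt a * P.sg (lp l) = P.tt b * P.sg (lp m) := congrArg Subtype.val e
      have hab : (a : ℕ) ^^^ (b : ℕ) < 16 := Nat.xor_lt_two_pow (n := 4) a.isLt b.isLt
      have hbb : P.tt b * P.tt b = 1 := by rw [← P.tt_xor b.isLt b.isLt, Nat.xor_self, P.tt_zero]
      have h1 : P.tt ((b : ℕ) ^^^ (a : ℕ)) = P.sg (lp m) * (P.sg (lp l))⁻¹ := by
        rw [P.tt_xor b.isLt a.isLt, eq_mul_inv_iff_mul_eq, mul_assoc, e', ← mul_assoc, hbb, one_mul]
      rw [← P.sg_inv, ← P.sg_mul] at h1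
      obtain ⟨h2, h3, -, h5, -⟩ := tab_facts (a := (b : ℕ) ^^^ (a : ℕ)) (Nat.xor_lt_two_pow (n := 4) b.isLt a.isLt)
      have h6 : P.ev (tv ((b : ℕ) ^^^ (a : ℕ))) * P.sg (rg (tr ((b : ℕ) ^^^ (a : ℕ)))) =
          P.ev 0 * P.sg (lp m * (lp l)⁻¹) := by rw [P.ev_zero, one_mul]; exact h1
      obtain ⟨h7, -⟩ := P.decomp_unique h2 (by norm_num) h6
      have hba : (b : ℕ) = a := Nat.xor_eq_zero_iff.1 (h5 (by rw [h7]; decide +kernel))
      rw [hba, Nat.xor_self, P.tt_zero] at h1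
      have hlm : lp m = lp l := by
        have h8 : P.ev 0 * P.sg 1 = P.ev 0 * P.sg (lp m * (lp l)⁻¹) := by rw [P.sg_one, mul_one, ← h1, mul_one]
        exact mul_inv_eq_one.1 (P.decomp_unique (by norm_num) (by norm_num) h8).2.symm
      have hml : (m : ℕ) = l := by
        have hc : ((List.range 64).all fun x => (List.range 64).all fun y =>
            Nat.beq x y || !(Nat.beq (cmpL.getD x 0) (cmpL.getD y 0))) = true := by decide +kernel
        have hr1 := (lp_facts m.isLt).1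
        rw [hlm] at hr1
        have hr2 := (lp_facts l.isLt).1
        have hp : ∀ i < 24, pget (cmpL.getD (m : ℕ) 0) i = pget (cmpL.getD (l : ℕ) 0) i := fun i hi =>
          (hr1.apply ⟨i, hi⟩).symm.trans (hr2.apply ⟨i, hi⟩)
        have hd : ((List.range 64).all fun x => (List.range 64).all fun y => Nat.beq x y ||
            bits24.any fun i => !(Nat.beq (pget (cmpL.getD x 0) i) (pget (cmpL.getD y 0) i))) = true := by
          decide +kernel
        have h9 := List.all_eq_true.1 (List.all_eq_true.1 hd m (List.mem_range.2 m.isLt)) l (List.mem_range.2 l.isLt)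
        rw [Bool.or_eq_true, Nat.beq_eq] at h9
        refine h9.resolve_right fun hn => ?_
        obtain ⟨i, hi, hne⟩ := List.any_eq_true.1 hn
        rw [Bool.not_eq_true', ← Bool.not_eq_true, Nat.beq_eq] at hne
        exact hne (hp i (mem_bits24.1 hi))
      exact Prod.ext (Fin.ext hba.symm) (Fin.ext hml.symm)
    · obtain ⟨a, ha, l, hl, e⟩ := g.2
      exact ⟨(⟨a, ha⟩, ⟨l, hl⟩), Subtype.ext e⟩
  rw [← Nat.card_eq_of_bijective _ hb, Nat.card_prod, Nat.card_fin, Nat.card_fin]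

theorem Cp_inf : P.Cp ⊓ P.A0 = ⊥ := by
  rw [eq_bot_iff]
  rintro _ ⟨⟨a, ha, l, hl, rfl⟩, h⟩
  obtain ⟨rfl, rfl⟩ := (P.mem_A0_iff ha hl).1 h
  rw [Subgroup.mem_bot, P.tt_zero, lp_zero, P.sg_one, one_mul]

theorem exists_complement :
    ∃ B : Subgroup G, B ≤ P.N0 ∧ B ⊓ P.A0 = ⊥ ∧ B ⊔ P.A0 = P.N0 ∧
      Nonempty (↥B ≃* Matrix.SpecialLinearGroup (Fin 5) (ZMod 2)) := by
  set K := P.A0.subgroupOf P.N0 with hK
  haveI hKn : K.Normal := Subgroup.normal_in_normalizer
  haveI : IsMulCommutative ↥K :=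
    ⟨⟨fun a b => Subtype.ext (Subtype.ext (P.A0_comm (Subgroup.mem_subgroupOf.1 a.2) (Subgroup.mem_subgroupOf.1 b.2)).eq)⟩⟩
  set C := P.Cp.subgroupOf P.N0
  set U := K ⊔ C with hU
  have hCle : P.Cp ≤ P.N0 := P.Cp_le.trans inf_le_left
  have hCK : C ⊓ K = ⊥ := by
    rw [eq_bot_iff]
    rintro ⟨x, hx⟩ ⟨h1, h2⟩
    refine Subgroup.mem_bot.2 (Subtype.ext ?_)
    exact Subgroup.mem_bot.1 (P.Cp_inf ▸ ⟨Subgroup.mem_subgroupOf.1 h1, Subgroup.mem_subgroupOf.1 h2⟩)
  have hcK : Nat.card ↥K = 2 ^ 10 := by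
    rw [Nat.card_congr (Subgroup.subgroupOfEquivOfLe P.A0_le_N0).toEquiv, P.card_A0]
  have hcU : Nat.card ↥U = 2 ^ 20 := by
    have hco : ((K : Set ↥P.N0) * (C : Set ↥P.N0)) = (U : Set ↥P.N0) := (Subgroup.normal_mul K C).symm
    let e : ↥K × ↥C → ↥U := fun q => ⟨(q.1 : ↥P.N0) * q.2, mul_mem (Subgroup.mem_sup_left q.1.2) (Subgroup.mem_sup_right q.2.2)⟩
    have he : Function.Bijective e := by
      refine ⟨?_, fun g => ?_⟩
      · rintro ⟨k, c⟩ ⟨k', c'⟩ h
        have h' : (k : ↥P.N0) * c = k' * c' := congrArg Subtype.val h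
        have hm : (k' : ↥P.N0)⁻¹ * k = c' * (c : ↥P.N0)⁻¹ := by
          rw [eq_mul_inv_iff_mul_eq, mul_assoc, h', inv_mul_cancel_left]
        have h1 : (k' : ↥P.N0)⁻¹ * k ∈ C ⊓ K := Subgroup.mem_inf.2
          ⟨hm.symm ▸ C.mul_mem c'.2 (C.inv_mem c.2), K.mul_mem (K.inv_mem k'.2) k.2⟩
        rw [hCK, Subgroup.mem_bot, inv_mul_eq_one] at h1
        have hk : k' = k := Subtype.ext h1
        subst hk
        exact Prod.ext rfl (Subtype.ext (mul_left_cancel h'))
      · obtain ⟨k, hk, c, hc, hkc⟩ := hco.ge g.2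
        exact ⟨(⟨k, hk⟩, ⟨c, hc⟩), Subtype.ext hkc⟩
    rw [← Nat.card_eq_of_bijective e he, Nat.card_prod, hcK,
      Nat.card_congr (Subgroup.subgroupOfEquivOfLe hCle).toEquiv, P.card_Cp]
    norm_num
  have hidx : U.index = 9765 := by
    have h := U.index_mul_card
    rw [hcU, P.card_N0] at h
    exact Nat.eq_of_mul_eq_mul_right (show 0 < 2 ^ 20 by norm_num) (h.trans (by norm_num))
  obtain ⟨H, hH⟩ := Cfsg.Lib.GaschutzAbelian.exists_complement K U le_sup_left
    (by rw [hcK, hidx]; exact Nat.Coprime.pow_left _ (by norm_num)) C le_sup_right hCK rfl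
  refine ⟨H.map P.N0.subtype, Subgroup.map_subtype_le _, ?_, ?_, ?_⟩
  · rw [eq_bot_iff]
    rintro _ ⟨⟨x, hx, rfl⟩, hA⟩
    have h := hH.disjoint.le_bot (Subgroup.mem_inf.2 ⟨Subgroup.mem_subgroupOf.2 hA, hx⟩ : x ∈ K ⊓ H)
    rw [Subgroup.mem_bot] at h
    simp [h]
  · refine le_antisymm (sup_le (Subgroup.map_subtype_le _) P.A0_le_N0) fun x hx => ?_
    obtain ⟨⟨k, h⟩, e⟩ := hH.2 ⟨x, hx⟩
    have e' : ((k : ↥P.N0) : G) * ((h : ↥P.N0) : G) = x := congrArg Subtype.val e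
    rw [← e']
    exact mul_mem (Subgroup.mem_sup_right (Subgroup.mem_subgroupOf.1 k.2)) (Subgroup.mem_sup_left ⟨h, h.2, rfl⟩)
  · let θ : ↥H →* Matrix.SpecialLinearGroup (Fin 5) (ZMod 2) := P.toSL.comp H.subtype
    have hb : Function.Bijective θ := by
      refine ⟨?_, fun g => ?_⟩
      · refine (MonoidHom.ker_eq_bot_iff θ).1 (eq_bot_iff.2 fun x hx => ?_)
        have h : (x : ↥P.N0) ∈ P.toSL.ker := hx
        rw [P.ker_toSL] at h
        exact Subtype.ext (Subgroup.mem_bot.1 (hH.disjoint.le_bot (Subgroup.mem_inf.2 ⟨h, x.2⟩)))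
      · obtain ⟨n, rfl⟩ := P.toSL_surjective g
        obtain ⟨⟨k, h⟩, e⟩ := hH.2 n
        refine ⟨h, ?_⟩
        show P.toSL h = _
        have hk : P.toSL k = 1 := by
          rw [← MonoidHom.mem_ker, P.ker_toSL]
          exact k.2
        rw [← e, map_mul, hk, one_mul]
    exact ⟨(Subgroup.equivMapOfInjective H _ Subtype.val_injective).symm.trans (MulEquiv.ofBijective θ hb)⟩

/-- A nontrivial invariant subgroup is everything. -/
theorem irreducible {W : Subgroup G} (hW : W ≤ P.A0) (hn : P.N0 ≤ Subgroup.normalizer (W : Set G)) :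
    W = ⊥ ∨ W = P.A0 := by
  classical
  by_cases hbot : W = ⊥
  · exact Or.inl hbot
  refine Or.inr (le_antisymm hW ?_)
  obtain ⟨⟨w, hw⟩, hw1'⟩ := Subgroup.ne_bot_iff_exists_ne_one.1 hbot
  have hw1 : w ≠ 1 := fun e => hw1' (Subtype.ext e)
  obtain ⟨z, hwz⟩ : ∃ z, w ∈ P.cls z := by
    by_cases h : IsConj F.z w
    · exact ⟨true, hW hw, hw1, fun _ => rfl, fun _ => h⟩
    · exact ⟨false, hW hw, hw1, fun e => absurd e h, fun e => Bool.noConfusion e⟩
  have hsub : ∀ v ∈ P.cls z, v ∈ W := fun v hv => by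
    obtain ⟨n, hn', rfl⟩ := P.cls_transitive hwz hv
    exact (Subgroup.mem_normalizer_iff.1 (hn hn') w).1 hw
  set M := cond z zMask dMask
  have hmem : ∀ x, M.testBit x = true → x < 1024 ∧ P.ph x ∈ W := by
    intro x hx
    have h1 : x < 1024 := by
      cases z
      all_goals
        simp only [M, cond_true, cond_false, zMask, dMask, Nat.testBit_or, Bool.or_eq_true] at hx
        exact hx.elim (fun h => (orb_lt (by norm_num) h).1) fun h => (orb_lt (by norm_num) h).1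
    refine ⟨h1, hsub _ ?_⟩
    cases z
    · rw [P.classes.1]; exact ⟨x, hx, rfl⟩
    · rw [P.classes.2]; exact ⟨x, hx, rfl⟩
  have hgen : ∀ b < 10, P.ph (1 <<< b) ∈ W := by
    intro b hb
    have hc : ([zMask, dMask].all fun M => (List.range 10).all fun b =>
        M.testBit (1 <<< b) || (List.range 1024).any fun x => M.testBit x && M.testBit (x ^^^ 1 <<< b)) = true := by
      decide +kernel
    have hM : M ∈ [zMask, dMask] := by cases z <;> simp [M]
    have h := List.all_eq_true.1 (List.all_eq_true.1 hc M hM) b (List.mem_range.2 hb)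
    rw [Bool.or_eq_true] at h
    rcases h with h | h
    · exact (hmem _ h).2
    · obtain ⟨x, -, hx⟩ := List.any_eq_true.1 h
      rw [Bool.and_eq_true] at hx
      obtain ⟨l1, m1⟩ := hmem _ hx.1
      obtain ⟨l2, m2⟩ := hmem _ hx.2
      rw [show 1 <<< b = x ^^^ (x ^^^ 1 <<< b) by rw [← Nat.xor_assoc, Nat.xor_self, Nat.zero_xor], P.ph_xor l1 l2]
      exact mul_mem m1 m2
  rintro _ ⟨x, hx, rfl⟩
  have hc : ((List.range 10).all fun n => (List.range (2 ^ n)).all fun z =>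
      Nat.beq (z ^^^ 1 <<< n) (z + 2 ^ n)) = true := by decide +kernel
  have key : ∀ m ≤ 10, ∀ y < 2 ^ m, P.ph y ∈ W := by
    intro m
    induction m with
    | zero =>
      intro _ y hy
      rw [pow_zero, Nat.lt_one_iff] at hy
      rw [hy, P.ph_zero]
      exact one_mem _
    | succ m ih =>
      intro hm y hy
      by_cases hlt : y < 2 ^ m
      · exact ih (by omega) y hlt
      · rw [pow_succ] at hy
        have hc' := List.all_eq_true.1 (List.all_eq_true.1 hc m (List.mem_range.2 (by omega))) (y - 2 ^ m)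
          (List.mem_range.2 (by omega))
        rw [Nat.beq_eq, Nat.sub_add_cancel (not_lt.1 hlt)] at hc'
        have h10 : 2 ^ m < 1024 := by
          rw [show (1024 : ℕ) = 2 ^ 10 by norm_num]
          exact Nat.pow_lt_pow_right (by norm_num) (by omega)
        rw [← hc', P.ph_xor (by omega) (by rw [Nat.one_shiftLeft]; exact h10)]
        exact mul_mem (ih (by omega) _ (by omega)) (hgen m (by omega))
  exact key 10 le_rfl x (by norm_num; exact hx)

end TenSetup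

end Cfsg.Lib.JankoFourTen
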